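import Cfsg.Agent.Lib.Schur.PSUFourThree.Data
import Cfsg.Agent.Lib.Schur.PSUFourThree.Data2
import Cfsg.Agent.Lib.Schur.TailsSLP

/-!
Kernel checks of the data for the 2-part of the multiplier of `PSU₄(3)`.
-/

set_option autoImplicit false
set_option maxRecDepth 100000
set_option maxHeartbeats 0
set_option Elab.async false

namespace CfsgLib.Schur.PSUFourThree

open CfsgLib.Sporadic.OutCert

theorem slp2_ok : Tails.slpK 7 112 2 slpTab2 slpW2 = true ∧
    slpTab2.take 2 = baseK := by decide +kernel

theorem pick2_ok : Tails.pickK 7 112 slpTab2 ids2 kk2 = true ∧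
    Tails.pickK 7 112 slpTab2 gids2 gk2 = true := by decide +kernel

theorem cert2_eqs : cert2.eqsOK = true := by decide +kernel

theorem cert2_comb : cert2.combOK = true := by decide +kernel

theorem cert2_shape : cert2.shapeOK = true ∧ cert2.p = 2 ∧ ¬ 2 ∣ cert2.m ∧ cert2.b = 4 ∧
    ¬ 2 ^ (cert2.r + 1) ∣ 3265920 := by decide +kernel

theorem rels2_ok : Tails.relK 7 112 kk2 cert2 = true ∧ Tails.fusK 7 112 kk2 gk2 cert2 = true := by
  decide +kernel

theorem all2_ok : Tails.wordsOK 7 112 kk2 pts2 words2 0 cert2.r = true ∧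
    words2.length = 2 ^ cert2.r := by decide +kernel

theorem inner2_ok : Tails.wordsOK 7 112 kk2 pts2 inner2 cert2.a cert2.r = true ∧
    inner2.length = 2 ^ (cert2.r - cert2.a) := by decide +kernel

end CfsgLib.Schur.PSUFourThree
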