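import Cfsg.Agent.Lib.Schur.TailsBoundTwo

/-!
Machine generated data for the 3-part of the multiplier of `PSU₄(3)`.
-/

set_option autoImplicit false
set_option maxRecDepth 100000
set_option maxHeartbeats 0

namespace CfsgLib.Schur.PSUFourThree

/-- A table of elements built from the two generators. -/
def slpTab3 : List ℕ := [
    0x70edd39a71171c6a38c2bc49994ed9bf6ee2b0f205ca5a106115af233d463ac6e30ca898c3024a9744a0b76ac59a07d7c56c3cd29032353dd0fe5031486e5782502676834daa244c8114ac66e17d2c06b1756fa2a51969d4ece7e32e1f34093a5e02,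
    0x9b064c56cd1ab7d790f273660d195ac8b03b7b4938ae290dc3ba32a6168aadf28098afb3b09bb9f1e5c3b5b88b9cda921cbd58423c549f867812861b1bc83a893204850a552b1376a2002c17170b471be1a3078e953a3424b9f49f2ab1980a6f43e0,
    0x3b7b6bd3c3a5597e34a219a6e8a35ca9322c8d24203f417c538cc4a9d989a95358630acf8efdb618124cca5834202ed298ab5aa575112c3c2f253d2cdbccb10e2c18f80b1c5cd0ea78cd6fa580d2da188d4ca38482ae9935a15b9073bad11bb38112,
    0x6f8769784f0c57108eb5e5a6edeb9145314d9343a81743239d4119475f0efbbca85ac97d6a32a98c1260b85b4ab80312ee7088f8558f73ce89753b638259a95d5318fa68279a8aeaa951b6259d2440991cdbd89982780e26964052d1281bf1438106,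
    0xd9bf6ee7d8e88523524b2266cb9f20f538a250e928b85b4ab38d2ace0c66fc8d625ac08b1e344618124c1b2ced8ac1d35bc3772d9586345a954d295cd3d6bc6c6948f44810a384eaf2e16e68646eed9bfd4e074d839ca04c55d78c3ca9888020c100,
    0xdfbb6ec1d82aad45329183e4cb9b0b7a49a700d3994c528c886db4889e3343a22bda07b95c521038a09e599dece1b9a292c396cddad91482136a69680a88506b1afa4d6f804b16aceb0d51c2326efddb3856d0311e8cabcc6e6528a8192d85c729c4,
    0xd9bf6ee0f1b4b356d47188ee4bd77ef5f3cb6c50425006ae59a8e89b9e2ca5974273d21820200d02a0b43878e9f069ccb8c3ac8a28790a859442b3092a9de09740b24910224cb976f5f4d3b1326e0ad538a4b30d1f5176335617ea6c1961352956a1,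
    0xddb36ef9c72ab409aa3b25c04bb06af5cb12522bb30afa8e3577349654ee4e0a0be29f217e680810e0c22264e95d66d6dbc26a30a446294c1352ea02619b2c4c953a47962228b58af6604a6b646f2d1e7a6e04651e3070d07a253f173ec940ee8f21,
    0x256f6b8236b739812264404517b1c745f053a9b2e821637ba276763b0cff152d790f2760b80978b360c9168aadf108eb5e1282a5d1486bdc306cc9a56a94291c3460f6ad1bb64b9f49f2ab1980953a342a6f43e0499b51c2cb5903973e3c3a0f0261,
    0x870a0c0a49e497549972206c9696af8978ccf3963d51b268724362e626c6acbd5a34ebc6168be4313680bfb8f3cb86e504bb96ce1bccc750142c488b6ae3bf98c30242a74c9176600a574437d8727118670523541f6a41f6cdda35354d04f520b256,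
    0x9b064c56cd1ab7d790f273660d195ac8b03b7b4938ae290dc3ba32a6168aadf28098afb3b09bb9f1e5c3b5b88b9cda921cbd58423c549f867812861b1bc83a893204850a552b1376a2002c17170b471be1a3078e953a3424b9f49f2ab1980a6f43e0,
    0x70edd39a71171c6a38c2bc49994ed9bf6ee2b0f205ca5a106115af233d463ac6e30ca898c3024a9744a0b76ac59a07d7c56c3cd29032353dd0fe5031486e5782502676834daa244c8114ac66e17d2c06b1756fa2a51969d4ece7e32e1f34093a5e02]

/-- The words building them. -/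
def slpW3 : List (List ℕ) := [
    [0, 0, 0, 1, 1, 0, 0, 1, 1, 1, 0, 1, 1, 0, 1, 1, 0, 1],
    [1, 1, 0, 1, 0, 1, 1, 0, 1, 1, 0, 0, 1, 1, 1, 0, 0, 0, 1, 0],
    [1, 0, 0, 0, 1, 0, 1, 0, 0, 0, 0, 0, 1, 0, 0, 1, 0, 0, 0],
    [0, 1, 0, 0, 1, 0, 0, 1, 0, 0, 0, 0, 1, 1, 0, 1, 1, 1, 0, 0],
    [0, 1, 1, 1, 0, 1, 0, 1, 0, 0, 0, 1, 1, 1, 1, 0, 0, 1, 0, 0, 0],
    [1, 0, 0, 1, 0, 0, 1, 0, 1, 1, 1, 1, 0, 0, 0, 0, 1, 0, 0, 1],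
    [1, 0, 1, 1, 0, 1, 1, 1, 1, 0, 1, 1, 0, 1, 1, 1, 0, 0, 1, 0, 1, 1],
    [0, 1, 1, 0, 0, 0, 0, 1, 0, 1, 0, 1, 0, 1, 1, 0, 0, 0, 0, 1],
    [1],
    [0]]

/-- The places of the generators of the subgroup. -/
def ids3 : List ℕ := [2, 3, 4, 5, 6, 7]

/-- Those generators. -/
def kk3 : List ℕ := [
    0x3b7b6bd3c3a5597e34a219a6e8a35ca9322c8d24203f417c538cc4a9d989a95358630acf8efdb618124cca5834202ed298ab5aa575112c3c2f253d2cdbccb10e2c18f80b1c5cd0ea78cd6fa580d2da188d4ca38482ae9935a15b9073bad11bb38112,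
    0x6f8769784f0c57108eb5e5a6edeb9145314d9343a81743239d4119475f0efbbca85ac97d6a32a98c1260b85b4ab80312ee7088f8558f73ce89753b638259a95d5318fa68279a8aeaa951b6259d2440991cdbd89982780e26964052d1281bf1438106,
    0xd9bf6ee7d8e88523524b2266cb9f20f538a250e928b85b4ab38d2ace0c66fc8d625ac08b1e344618124c1b2ced8ac1d35bc3772d9586345a954d295cd3d6bc6c6948f44810a384eaf2e16e68646eed9bfd4e074d839ca04c55d78c3ca9888020c100,
    0xdfbb6ec1d82aad45329183e4cb9b0b7a49a700d3994c528c886db4889e3343a22bda07b95c521038a09e599dece1b9a292c396cddad91482136a69680a88506b1afa4d6f804b16aceb0d51c2326efddb3856d0311e8cabcc6e6528a8192d85c729c4,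
    0xd9bf6ee0f1b4b356d47188ee4bd77ef5f3cb6c50425006ae59a8e89b9e2ca5974273d21820200d02a0b43878e9f069ccb8c3ac8a28790a859442b3092a9de09740b24910224cb976f5f4d3b1326e0ad538a4b30d1f5176335617ea6c1961352956a1,
    0xddb36ef9c72ab409aa3b25c04bb06af5cb12522bb30afa8e3577349654ee4e0a0be29f217e680810e0c22264e95d66d6dbc26a30a446294c1352ea02619b2c4c953a47962228b58af6604a6b646f2d1e7a6e04651e3070d07a253f173ec940ee8f21]

/-- The places of the fusing elements. -/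
def gids3 : List ℕ := [8, 9]

/-- The fusing elements. -/
def gk3 : List ℕ := [
    0x256f6b8236b739812264404517b1c745f053a9b2e821637ba276763b0cff152d790f2760b80978b360c9168aadf108eb5e1282a5d1486bdc306cc9a56a94291c3460f6ad1bb64b9f49f2ab1980953a342a6f43e0499b51c2cb5903973e3c3a0f0261,
    0x870a0c0a49e497549972206c9696af8978ccf3963d51b268724362e626c6acbd5a34ebc6168be4313680bfb8f3cb86e504bb96ce1bccc750142c488b6ae3bf98c30242a74c9176600a574437d8727118670523541f6a41f6cdda35354d04f520b256]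

/-- The places of the elements of prime order. -/
def ordIds : List ℕ := [10, 11]

/-- Elements of order 5 and 7. -/
def ordK : List ℕ := [0x9b064c56cd1ab7d790f273660d195ac8b03b7b4938ae290dc3ba32a6168aadf28098afb3b09bb9f1e5c3b5b88b9cda921cbd58423c549f867812861b1bc83a893204850a552b1376a2002c17170b471be1a3078e953a3424b9f49f2ab1980a6f43e0, 0x70edd39a71171c6a38c2bc49994ed9bf6ee2b0f205ca5a106115af233d463ac6e30ca898c3024a9744a0b76ac59a07d7c56c3cd29032353dd0fe5031486e5782502676834daa244c8114ac66e17d2c06b1756fa2a51969d4ece7e32e1f34093a5e02]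

/-- Points telling the elements apart. -/
def pts3 : List ℕ := [1, 0]

/-- Words for all elements. -/
def words3 : List (List ℕ) := [
    [],
    [2],
    [2, 2],
    [3, 4, 4, 5, 5],
    [2, 3, 4, 4, 5, 5],
    [2, 2, 3, 4, 4, 5, 5],
    [2, 2, 3, 4],
    [2, 2, 3, 3, 4, 4],
    [2, 2, 4, 5, 5],
    [2, 2, 3, 3, 5, 5],
    [2, 4, 5, 5],
    [3, 5],
    [2, 3, 3, 4, 4],
    [3, 3, 4, 4],
    [3, 3, 4, 5],
    [4, 5, 5],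
    [4, 4, 5],
    [3, 3, 5, 5],
    [2, 4, 4, 5],
    [3, 4],
    [2, 2, 3, 3, 4, 5],
    [2, 2, 3, 5],
    [2, 3, 3, 4, 5],
    [2, 3, 4],
    [2, 3, 3, 5, 5],
    [2, 3, 5],
    [2, 2, 4, 4, 5],
    [1],
    [1, 2, 2, 3, 3, 4, 5],
    [1, 3, 3, 4, 5],
    [1, 2, 3, 3, 4, 5],
    [1, 2, 2],
    [1, 2],
    [1, 2, 2, 3, 3, 4, 4],
    [1, 4, 4, 5],
    [1, 2, 2, 3, 4],
    [1, 3, 5],
    [1, 2, 3, 5],
    [1, 4, 5, 5],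
    [1, 3, 3, 4, 4],
    [1, 3, 3, 5, 5],
    [1, 2, 3, 3, 4, 4],
    [1, 2, 2, 3, 5],
    [1, 3, 4, 4, 5, 5],
    [1, 2, 2, 4, 4, 5],
    [1, 2, 2, 3, 3, 5, 5],
    [1, 2, 3, 4],
    [1, 2, 3, 4, 4, 5, 5],
    [1, 2, 4, 5, 5],
    [1, 2, 2, 4, 5, 5],
    [1, 3, 4],
    [1, 2, 2, 3, 4, 4, 5, 5],
    [1, 2, 4, 4, 5],
    [1, 2, 3, 3, 5, 5],
    [1, 1, 2, 5, 5],
    [1, 1, 2, 2, 5, 5],
    [1, 1, 2, 2, 3, 3, 4],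
    [1, 1, 2, 3, 3, 4],
    [1, 1, 3, 3, 4],
    [1, 1, 5, 5],
    [1, 1, 2, 3],
    [1, 1, 2, 2, 3, 4, 5, 5],
    [1, 1, 2, 4, 4],
    [1, 1, 2, 2, 3, 3, 4, 4, 5, 5],
    [1, 1, 2, 2, 4, 5],
    [1, 1, 2, 2, 3],
    [1, 1, 3, 3, 4, 4, 5, 5],
    [1, 1, 2, 3, 3, 4, 4, 5, 5],
    [1, 1, 2, 2, 3, 3, 5],
    [1, 1, 2, 2, 3, 4, 4, 5],
    [1, 1, 3],
    [1, 1, 2, 3, 3, 5],
    [1, 1, 4, 4],
    [1, 1, 2, 3, 4, 5, 5],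
    [1, 1, 3, 4, 4, 5],
    [1, 1, 4, 5],
    [1, 1, 3, 4, 5, 5],
    [1, 1, 2, 4, 5],
    [1, 1, 2, 2, 4, 4],
    [1, 1, 2, 3, 4, 4, 5],
    [1, 1, 3, 3, 5],
    [0],
    [0, 2, 2, 3, 4],
    [0, 2, 4, 5, 5],
    [0, 2, 3, 5],
    [0, 2, 3, 4, 4, 5, 5],
    [0, 3, 4, 4, 5, 5],
    [0, 2, 2, 3, 4, 4, 5, 5],
    [0, 4, 4, 5],
    [0, 2, 4, 4, 5],
    [0, 2, 2, 4, 4, 5],
    [0, 2, 3, 3, 5, 5],
    [0, 4, 5, 5],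
    [0, 3, 3, 4, 4],
    [0, 2, 3, 4],
    [0, 2, 2, 3, 3, 4, 5],
    [0, 3, 4],
    [0, 2, 2, 4, 5, 5],
    [0, 2, 2, 3, 3, 4, 4],
    [0, 2, 2, 3, 5],
    [0, 2, 3, 3, 4, 5],
    [0, 2],
    [0, 2, 3, 3, 4, 4],
    [0, 3, 3, 4, 5],
    [0, 2, 2],
    [0, 3, 3, 5, 5],
    [0, 3, 5],
    [0, 2, 2, 3, 3, 5, 5],
    [0, 1, 1, 3, 3],
    [0, 1, 1, 2, 2, 3, 5, 5],
    [0, 1, 1, 2, 3, 4, 4],
    [0, 1, 1, 2, 2, 3, 3, 4, 4, 5],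
    [0, 1, 1, 5],
    [0, 1, 1, 4, 4, 5, 5],
    [0, 1, 1, 2, 2, 4, 4, 5, 5],
    [0, 1, 1, 2, 4, 4, 5, 5],
    [0, 1, 1, 2, 5],
    [0, 1, 1, 2, 2, 5],
    [0, 1, 1, 2, 3, 3, 4, 4, 5],
    [0, 1, 1, 2, 4],
    [0, 1, 1, 2, 2, 3, 4, 5],
    [0, 1, 1, 2, 2, 3, 3],
    [0, 1, 1, 2, 3, 3],
    [0, 1, 1, 3, 3, 4, 5, 5],
    [0, 1, 1, 3, 3, 4, 4, 5],
    [0, 1, 1, 3, 5, 5],
    [0, 1, 1, 2, 2, 3, 3, 4, 5, 5],
    [0, 1, 1, 4],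
    [0, 1, 1, 2, 2, 3, 4, 4],
    [0, 1, 1, 2, 2, 4],
    [0, 1, 1, 2, 3, 3, 4, 5, 5],
    [0, 1, 1, 3, 4, 4],
    [0, 1, 1, 2, 3, 4, 5],
    [0, 1, 1, 2, 3, 5, 5],
    [0, 1, 1, 3, 4, 5],
    [0, 0, 2, 5],
    [0, 0, 4],
    [0, 0, 2, 2, 3, 4, 5],
    [0, 0, 3, 5, 5],
    [0, 0, 3, 4, 4],
    [0, 0, 2, 3, 4, 4],
    [0, 0, 2, 4, 4, 5, 5],
    [0, 0, 4, 4, 5, 5],
    [0, 0, 2, 2, 4, 4, 5, 5],
    [0, 0, 2, 2, 3, 4, 4],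
    [0, 0, 2, 3, 3, 4, 4, 5],
    [0, 0, 2, 2, 5],
    [0, 0, 2, 3, 5, 5],
    [0, 0, 2, 2, 3, 3, 4, 5, 5],
    [0, 0, 2, 2, 3, 5, 5],
    [0, 0, 5],
    [0, 0, 3, 3],
    [0, 0, 2, 3, 3],
    [0, 0, 2, 3, 4, 5],
    [0, 0, 2, 2, 4],
    [0, 0, 2, 2, 3, 3, 4, 4, 5],
    [0, 0, 3, 3, 4, 4, 5],
    [0, 0, 2, 2, 3, 3],
    [0, 0, 3, 3, 4, 5, 5],
    [0, 0, 2, 4],
    [0, 0, 3, 4, 5],
    [0, 0, 2, 3, 3, 4, 5, 5],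
    [0, 0, 1, 2, 3, 3, 5],
    [0, 0, 1, 3, 4, 4, 5],
    [0, 0, 1, 2, 2, 3],
    [0, 0, 1, 2, 2, 3, 3, 4, 4, 5, 5],
    [0, 0, 1, 2, 4, 4],
    [0, 0, 1, 2, 2, 4, 4],
    [0, 0, 1, 4, 4],
    [0, 0, 1, 2, 5, 5],
    [0, 0, 1, 5, 5],
    [0, 0, 1, 2, 2, 5, 5],
    [0, 0, 1, 2, 3, 4, 4, 5],
    [0, 0, 1, 2, 3, 3, 4],
    [0, 0, 1, 3],
    [0, 0, 1, 4, 5],
    [0, 0, 1, 2, 3],
    [0, 0, 1, 2, 2, 3, 4, 5, 5],
    [0, 0, 1, 2, 2, 3, 4, 4, 5],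
    [0, 0, 1, 3, 3, 5],
    [0, 0, 1, 2, 4, 5],
    [0, 0, 1, 2, 3, 3, 4, 4, 5, 5],
    [0, 0, 1, 3, 4, 5, 5],
    [0, 0, 1, 2, 2, 4, 5],
    [0, 0, 1, 2, 3, 4, 5, 5],
    [0, 0, 1, 3, 3, 4, 4, 5, 5],
    [0, 0, 1, 2, 2, 3, 3, 5],
    [0, 0, 1, 2, 2, 3, 3, 4],
    [0, 0, 1, 3, 3, 4],
    [2, 2, 5],
    [3, 3, 4, 5, 5],
    [2, 2, 3, 4, 4],
    [3, 5, 5],
    [3, 4, 4],
    [4, 4, 5, 5],
    [5],
    [2, 3, 3, 4, 4, 5],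
    [3, 3, 4, 4, 5],
    [2, 2, 3, 3, 4, 4, 5],
    [2, 4],
    [2, 2, 4],
    [4],
    [2, 3, 3],
    [2, 3, 4, 5],
    [2, 5],
    [2, 3, 4, 4],
    [3, 3],
    [3, 4, 5],
    [2, 2, 4, 4, 5, 5],
    [2, 4, 4, 5, 5],
    [2, 3, 3, 4, 5, 5],
    [2, 2, 3, 3],
    [2, 2, 3, 3, 4, 5, 5],
    [2, 2, 3, 5, 5],
    [2, 2, 3, 4, 5],
    [2, 3, 5, 5],
    [1, 2, 3, 3, 4],
    [1, 3, 4, 4, 5],
    [1, 2, 5, 5],
    [1, 2, 4, 4],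
    [1, 2, 3],
    [1, 5, 5],
    [1, 2, 2, 3, 4, 4, 5],
    [1, 2, 2, 4, 5],
    [1, 4, 5],
    [1, 3, 3, 4, 4, 5, 5],
    [1, 2, 3, 3, 4, 4, 5, 5],
    [1, 2, 2, 3, 3, 4, 4, 5, 5],
    [1, 2, 4, 5],
    [1, 2, 3, 4, 4, 5],
    [1, 2, 2, 5, 5],
    [1, 2, 3, 3, 5],
    [1, 2, 2, 3, 4, 5, 5],
    [1, 2, 2, 4, 4],
    [1, 3, 4, 5, 5],
    [1, 2, 2, 3, 3, 5],
    [1, 4, 4],
    [1, 3, 3, 4],
    [1, 2, 3, 4, 5, 5],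
    [1, 2, 2, 3],
    [1, 3, 3, 5],
    [1, 2, 2, 3, 3, 4],
    [1, 3],
    [1, 1, 2, 2, 3, 4, 4],
    [1, 1, 3, 3, 4, 5, 5],
    [1, 1, 5],
    [1, 1, 2, 2, 3, 3, 4, 5, 5],
    [1, 1, 2, 3, 4, 4],
    [1, 1, 3, 3, 4, 4, 5],
    [1, 1, 3, 4, 5],
    [1, 1, 3, 5, 5],
    [1, 1, 2, 2, 3, 5, 5],
    [1, 1, 2, 3, 5, 5],
    [1, 1, 2, 2, 4],
    [1, 1, 2, 4],
    [1, 1, 4],
    [1, 1, 3, 4, 4],
    [1, 1, 2, 3, 3, 4, 5, 5],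
    [1, 1, 3, 3],
    [1, 1, 2, 4, 4, 5, 5],
    [1, 1, 2, 3, 3],
    [1, 1, 2, 3, 4, 5],
    [1, 1, 2, 2, 4, 4, 5, 5],
    [1, 1, 2, 2, 3, 4, 5],
    [1, 1, 2, 2, 5],
    [1, 1, 2, 3, 3, 4, 4, 5],
    [1, 1, 2, 2, 3, 3],
    [1, 1, 2, 5],
    [1, 1, 4, 4, 5, 5],
    [1, 1, 2, 2, 3, 3, 4, 4, 5],
    [0, 0, 4, 5, 5],
    [0, 0, 2, 3, 4, 4, 5, 5],
    [0, 0, 2, 3, 3, 4, 5],
    [0, 0, 3, 5],
    [0, 0, 2, 2, 3, 4],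
    [0, 0, 2, 2, 4, 5, 5],
    [0, 0, 3, 3, 4, 5],
    [0, 0, 3, 3, 5, 5],
    [0, 0, 2, 2],
    [0, 0, 2, 2, 3, 3, 4, 5],
    [0, 0, 2, 4, 5, 5],
    [0, 0, 2, 2, 3, 3, 4, 4],
    [0, 0, 3, 3, 4, 4],
    [0, 0, 2, 3, 3, 4, 4],
    [0, 0, 4, 4, 5],
    [0, 0, 2, 2, 4, 4, 5],
    [0, 0, 2, 4, 4, 5],
    [0, 0, 2, 3, 3, 5, 5],
    [0, 0, 3, 4, 4, 5, 5],
    [0, 0, 2, 3, 4],
    [0, 0],
    [0, 0, 2, 3, 5],
    [0, 0, 3, 4],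
    [0, 0, 2, 2, 3, 3, 5, 5],
    [0, 0, 2, 2, 3, 5],
    [0, 0, 2],
    [0, 0, 2, 2, 3, 4, 4, 5, 5],
    [0, 1, 1, 2, 5, 5],
    [0, 1, 1, 2, 3, 3, 4],
    [0, 1, 1, 2, 2, 3],
    [0, 1, 1, 2, 2, 3, 3, 4, 4, 5, 5],
    [0, 1, 1, 2, 2, 3, 3, 4],
    [0, 1, 1, 3, 3, 4, 4, 5, 5],
    [0, 1, 1, 3, 3, 5],
    [0, 1, 1, 2, 2, 4, 4],
    [0, 1, 1, 2, 4, 5],
    [0, 1, 1, 2, 3, 3, 4, 4, 5, 5],
    [0, 1, 1, 3, 3, 4],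
    [0, 1, 1, 3, 4, 4, 5],
    [0, 1, 1, 3, 4, 5, 5],
    [0, 1, 1, 2, 3, 4, 5, 5],
    [0, 1, 1, 2, 2, 3, 4, 5, 5],
    [0, 1, 1, 2, 2, 3, 4, 4, 5],
    [0, 1, 1, 2, 3, 4, 4, 5],
    [0, 1, 1, 3],
    [0, 1, 1, 4, 5],
    [0, 1, 1, 2, 4, 4],
    [0, 1, 1, 2, 3, 3, 5],
    [0, 1, 1, 5, 5],
    [0, 1, 1, 2, 2, 3, 3, 5],
    [0, 1, 1, 2, 2, 5, 5],
    [0, 1, 1, 2, 2, 4, 5],
    [0, 1, 1, 4, 4],
    [0, 1, 1, 2, 3],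
    [0, 2, 4],
    [0, 3, 3, 4, 5, 5],
    [0, 3, 4, 4],
    [0, 2, 3, 5, 5],
    [0, 2, 2, 3, 4, 5],
    [0, 2, 2, 4],
    [0, 2, 3, 3, 4, 5, 5],
    [0, 2, 2, 3, 3, 4, 5, 5],
    [0, 4],
    [0, 2, 4, 4, 5, 5],
    [0, 3, 3, 4, 4, 5],
    [0, 3, 3],
    [0, 2, 2, 3, 3],
    [0, 2, 2, 5],
    [0, 5],
    [0, 2, 5],
    [0, 2, 3, 3],
    [0, 2, 2, 3, 3, 4, 4, 5],
    [0, 3, 4, 5],
    [0, 4, 4, 5, 5],
    [0, 2, 2, 3, 5, 5],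
    [0, 2, 2, 3, 4, 4],
    [0, 2, 3, 4, 5],
    [0, 2, 3, 3, 4, 4, 5],
    [0, 2, 2, 4, 4, 5, 5],
    [0, 2, 3, 4, 4],
    [0, 3, 5, 5],
    [0, 0, 1, 5],
    [0, 0, 1, 2, 2, 3, 5, 5],
    [0, 0, 1, 3, 3, 4, 5, 5],
    [0, 0, 1, 2, 2, 3, 3, 4, 4, 5],
    [0, 0, 1, 2, 2, 3, 3, 4, 5, 5],
    [0, 0, 1, 2, 3, 3, 4, 4, 5],
    [0, 0, 1, 2, 3, 3],
    [0, 0, 1, 3, 3, 4, 4, 5],
    [0, 0, 1, 2, 3, 3, 4, 5, 5],
    [0, 0, 1, 2, 2, 3, 4, 5],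
    [0, 0, 1, 2, 3, 4, 4],
    [0, 0, 1, 2, 2, 4],
    [0, 0, 1, 2, 4],
    [0, 0, 1, 4],
    [0, 0, 1, 2, 2, 4, 4, 5, 5],
    [0, 0, 1, 4, 4, 5, 5],
    [0, 0, 1, 2, 4, 4, 5, 5],
    [0, 0, 1, 3, 3],
    [0, 0, 1, 3, 4, 5],
    [0, 0, 1, 2, 2, 5],
    [0, 0, 1, 2, 2, 3, 4, 4],
    [0, 0, 1, 3, 5, 5],
    [0, 0, 1, 2, 2, 3, 3],
    [0, 0, 1, 2, 3, 4, 5],
    [0, 0, 1, 2, 3, 5, 5],
    [0, 0, 1, 3, 4, 4],
    [0, 0, 1, 2, 5],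
    [2, 3, 3, 4],
    [2, 2, 5, 5],
    [2, 2, 3, 4, 4, 5],
    [2, 3, 4, 4, 5],
    [2, 4, 4],
    [2, 5, 5],
    [2, 3],
    [2, 4, 5],
    [2, 3, 3, 4, 4, 5, 5],
    [2, 2, 3],
    [2, 2, 3, 3, 4],
    [2, 2, 4, 5],
    [2, 2, 4, 4],
    [2, 2, 3, 3, 4, 4, 5, 5],
    [3, 3, 5],
    [3, 4, 5, 5],
    [2, 3, 4, 5, 5],
    [2, 2, 3, 4, 5, 5],
    [2, 2, 3, 3, 5],
    [2, 3, 3, 5],
    [3],
    [4, 4],
    [3, 3, 4, 4, 5, 5],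
    [4, 5],
    [5, 5],
    [3, 4, 4, 5],
    [3, 3, 4],
    [1, 1, 3, 3, 4, 5],
    [1, 1, 2, 3, 4, 4, 5, 5],
    [1, 1],
    [1, 1, 4, 4, 5],
    [1, 1, 3, 5],
    [1, 1, 2, 2, 3, 4, 4, 5, 5],
    [1, 1, 2],
    [1, 1, 2, 3, 3, 4, 4],
    [1, 1, 2, 2, 3, 5],
    [1, 1, 2, 2, 4, 5, 5],
    [1, 1, 2, 2, 4, 4, 5],
    [1, 1, 3, 3, 4, 4],
    [1, 1, 2, 4, 5, 5],
    [1, 1, 2, 2, 3, 3, 4, 5],
    [1, 1, 2, 3, 3, 5, 5],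
    [1, 1, 2, 2, 3, 3, 5, 5],
    [1, 1, 3, 4],
    [1, 1, 2, 3, 4],
    [1, 1, 2, 2, 3, 4],
    [1, 1, 3, 3, 5, 5],
    [1, 1, 2, 3, 5],
    [1, 1, 2, 4, 4, 5],
    [1, 1, 2, 2],
    [1, 1, 3, 4, 4, 5, 5],
    [1, 1, 4, 5, 5],
    [1, 1, 2, 2, 3, 3, 4, 4],
    [1, 1, 2, 3, 3, 4, 5],
    [1, 2, 2, 3, 4, 4],
    [1, 2, 3, 3, 4, 5, 5],
    [1, 2, 5],
    [1, 3, 4, 4],
    [1, 2, 2, 3, 3, 4, 5, 5],
    [1, 2, 3, 3, 4, 4, 5],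
    [1, 2, 3, 4, 5],
    [1, 3, 3, 4, 4, 5],
    [1, 4],
    [1, 2, 2, 3, 5, 5],
    [1, 2, 2, 4],
    [1, 3, 4, 5],
    [1, 5],
    [1, 2, 3, 5, 5],
    [1, 2, 2, 4, 4, 5, 5],
    [1, 2, 4, 4, 5, 5],
    [1, 4, 4, 5, 5],
    [1, 3, 3],
    [1, 2, 2, 3, 3],
    [1, 2, 3, 3],
    [1, 2, 2, 3, 3, 4, 4, 5],
    [1, 2, 2, 3, 4, 5],
    [1, 3, 3, 4, 5, 5],
    [1, 2, 3, 4, 4],
    [1, 2, 4],
    [1, 3, 5, 5],
    [1, 2, 2, 5],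
    [0, 0, 1, 1, 2, 4, 5, 5],
    [0, 0, 1, 1, 3, 4],
    [0, 0, 1, 1, 2, 2],
    [0, 0, 1, 1, 2, 3, 5],
    [0, 0, 1, 1, 4, 4, 5],
    [0, 0, 1, 1, 2, 2, 3, 3, 4, 5],
    [0, 0, 1, 1, 3, 3, 5, 5],
    [0, 0, 1, 1, 2, 2, 3, 4, 4, 5, 5],
    [0, 0, 1, 1, 2, 3, 3, 5, 5],
    [0, 0, 1, 1, 3, 3, 4, 5],
    [0, 0, 1, 1, 2, 4, 4, 5],
    [0, 0, 1, 1, 3, 4, 4, 5, 5],
    [0, 0, 1, 1, 3, 5],
    [0, 0, 1, 1, 4, 5, 5],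
    [0, 0, 1, 1, 2],
    [0, 0, 1, 1, 2, 2, 3, 4],
    [0, 0, 1, 1, 2, 2, 4, 4, 5],
    [0, 0, 1, 1, 2, 3, 4, 4, 5, 5],
    [0, 0, 1, 1, 2, 3, 3, 4, 5],
    [0, 0, 1, 1, 2, 2, 3, 3, 5, 5],
    [0, 0, 1, 1, 3, 3, 4, 4],
    [0, 0, 1, 1, 2, 3, 3, 4, 4],
    [0, 0, 1, 1, 2, 2, 3, 3, 4, 4],
    [0, 0, 1, 1, 2, 2, 4, 5, 5],
    [0, 0, 1, 1, 2, 2, 3, 5],
    [0, 0, 1, 1, 2, 3, 4],
    [0, 0, 1, 1],
    [0, 0, 1, 1, 2, 2, 3, 4, 4, 5],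
    [0, 0, 1, 1, 2, 2, 3, 3, 4],
    [0, 0, 1, 1, 2, 4, 5],
    [0, 0, 1, 1, 2, 3],
    [0, 0, 1, 1, 2, 2, 3, 3, 4, 4, 5, 5],
    [0, 0, 1, 1, 2, 3, 3, 5],
    [0, 0, 1, 1, 2, 4, 4],
    [0, 0, 1, 1, 5, 5],
    [0, 0, 1, 1, 2, 2, 4, 5],
    [0, 0, 1, 1, 3, 3, 4],
    [0, 0, 1, 1, 3, 4, 4, 5],
    [0, 0, 1, 1, 2, 2, 3],
    [0, 0, 1, 1, 2, 3, 3, 4, 4, 5, 5],
    [0, 0, 1, 1, 2, 2, 5, 5],
    [0, 0, 1, 1, 3, 3, 5],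
    [0, 0, 1, 1, 4, 4],
    [0, 0, 1, 1, 2, 2, 4, 4],
    [0, 0, 1, 1, 2, 2, 3, 3, 5],
    [0, 0, 1, 1, 3, 3, 4, 4, 5, 5],
    [0, 0, 1, 1, 2, 5, 5],
    [0, 0, 1, 1, 2, 3, 4, 5, 5],
    [0, 0, 1, 1, 2, 2, 3, 4, 5, 5],
    [0, 0, 1, 1, 3, 4, 5, 5],
    [0, 0, 1, 1, 2, 3, 3, 4],
    [0, 0, 1, 1, 4, 5],
    [0, 0, 1, 1, 3],
    [0, 0, 1, 1, 2, 3, 4, 4, 5],
    [0, 2, 2, 4, 4],
    [0, 2, 4, 5],
    [0, 2, 2, 3, 3, 5],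
    [0, 2, 3],
    [0, 2, 3, 3, 5],
    [0, 5, 5],
    [0, 3],
    [0, 3, 3, 4, 4, 5, 5],
    [0, 4, 5],
    [0, 2, 2, 3, 4, 4, 5],
    [0, 2, 2, 5, 5],
    [0, 2, 3, 3, 4, 4, 5, 5],
    [0, 2, 4, 4],
    [0, 3, 4, 4, 5],
    [0, 2, 2, 3, 3, 4, 4, 5, 5],
    [0, 2, 3, 4, 4, 5],
    [0, 2, 2, 3],
    [0, 3, 3, 5],
    [0, 4, 4],
    [0, 2, 2, 4, 5],
    [0, 2, 2, 3, 3, 4],
    [0, 3, 3, 4],
    [0, 2, 3, 3, 4],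
    [0, 3, 4, 5, 5],
    [0, 2, 3, 4, 5, 5],
    [0, 2, 2, 3, 4, 5, 5],
    [0, 2, 5, 5],
    [0, 0, 1, 2, 2, 3, 5],
    [0, 0, 1, 2, 3, 4],
    [0, 0, 1, 2, 4, 4, 5],
    [0, 0, 1, 2, 2, 3, 3, 4, 4],
    [0, 0, 1, 3, 5],
    [0, 0, 1, 3, 4, 4, 5, 5],
    [0, 0, 1, 2, 2, 3, 4],
    [0, 0, 1, 2, 2, 4, 4, 5],
    [0, 0, 1, 2, 3, 3, 4, 5],
    [0, 0, 1, 2, 3, 4, 4, 5, 5],
    [0, 0, 1, 2, 2, 3, 3, 5, 5],
    [0, 0, 1, 3, 3, 4, 4],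
    [0, 0, 1, 3, 3, 4, 5],
    [0, 0, 1, 2, 3, 3, 5, 5],
    [0, 0, 1, 3, 3, 5, 5],
    [0, 0, 1, 2, 2, 3, 3, 4, 5],
    [0, 0, 1, 3, 4],
    [0, 0, 1, 2, 3, 5],
    [0, 0, 1, 2, 3, 3, 4, 4],
    [0, 0, 1, 4, 4, 5],
    [0, 0, 1, 2, 2],
    [0, 0, 1, 2, 2, 4, 5, 5],
    [0, 0, 1, 4, 5, 5],
    [0, 0, 1, 2, 4, 5, 5],
    [0, 0, 1],
    [0, 0, 1, 2],
    [0, 0, 1, 2, 2, 3, 4, 4, 5, 5],
    [0, 1, 1, 2, 2, 3, 5],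
    [0, 1, 1, 4, 4, 5],
    [0, 1, 1, 3, 4],
    [0, 1, 1, 2, 2, 3, 3, 4, 4],
    [0, 1, 1, 2, 3, 4, 4, 5, 5],
    [0, 1, 1, 2, 2, 3, 4],
    [0, 1, 1, 2, 3, 5],
    [0, 1, 1, 3, 4, 4, 5, 5],
    [0, 1, 1, 2, 4, 5, 5],
    [0, 1, 1],
    [0, 1, 1, 2, 3, 3, 4, 4],
    [0, 1, 1, 2, 2, 4, 5, 5],
    [0, 1, 1, 2],
    [0, 1, 1, 2, 2, 4, 4, 5],
    [0, 1, 1, 3, 5],
    [0, 1, 1, 2, 3, 4],
    [0, 1, 1, 2, 2],
    [0, 1, 1, 4, 5, 5],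
    [0, 1, 1, 2, 4, 4, 5],
    [0, 1, 1, 3, 3, 4, 4],
    [0, 1, 1, 2, 3, 3, 4, 5],
    [0, 1, 1, 3, 3, 4, 5],
    [0, 1, 1, 2, 3, 3, 5, 5],
    [0, 1, 1, 3, 3, 5, 5],
    [0, 1, 1, 2, 2, 3, 3, 5, 5],
    [0, 1, 1, 2, 2, 3, 3, 4, 5],
    [0, 1, 1, 2, 2, 3, 4, 4, 5, 5],
    [0, 0, 2, 2, 4, 4],
    [0, 0, 2, 2, 3, 3, 5],
    [0, 0, 4, 5],
    [0, 0, 3],
    [0, 0, 2, 3],
    [0, 0, 3, 3, 5],
    [0, 0, 2, 5, 5],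
    [0, 0, 2, 2, 3, 3, 4],
    [0, 0, 2, 2, 5, 5],
    [0, 0, 4, 4],
    [0, 0, 3, 4, 5, 5],
    [0, 0, 2, 3, 3, 4],
    [0, 0, 2, 4, 5],
    [0, 0, 2, 2, 3, 4, 5, 5],
    [0, 0, 2, 3, 3, 5],
    [0, 0, 2, 2, 3],
    [0, 0, 3, 3, 4],
    [0, 0, 2, 3, 4, 5, 5],
    [0, 0, 2, 2, 4, 5],
    [0, 0, 2, 4, 4],
    [0, 0, 2, 3, 3, 4, 4, 5, 5],
    [0, 0, 3, 3, 4, 4, 5, 5],
    [0, 0, 2, 2, 3, 3, 4, 4, 5, 5],
    [0, 0, 3, 4, 4, 5],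
    [0, 0, 2, 2, 3, 4, 4, 5],
    [0, 0, 2, 3, 4, 4, 5],
    [0, 0, 5, 5],
    [0, 0, 1, 1, 3, 3],
    [0, 0, 1, 1, 2, 4],
    [0, 0, 1, 1, 4, 4, 5, 5],
    [0, 0, 1, 1, 2, 3, 5, 5],
    [0, 0, 1, 1, 2, 3, 4, 4],
    [0, 0, 1, 1, 3, 3, 4, 4, 5],
    [0, 0, 1, 1, 2, 2, 3, 4, 5],
    [0, 0, 1, 1, 2, 3, 3, 4, 5, 5],
    [0, 0, 1, 1, 3, 4, 4],
    [0, 0, 1, 1, 3, 3, 4, 5, 5],
    [0, 0, 1, 1, 2, 2, 3, 3, 4, 4, 5],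
    [0, 0, 1, 1, 2, 3, 4, 5],
    [0, 0, 1, 1, 2, 2, 4],
    [0, 0, 1, 1, 2, 4, 4, 5, 5],
    [0, 0, 1, 1, 2, 2, 3, 5, 5],
    [0, 0, 1, 1, 2, 3, 3],
    [0, 0, 1, 1, 2, 2, 4, 4, 5, 5],
    [0, 0, 1, 1, 4],
    [0, 0, 1, 1, 2, 2, 3, 3],
    [0, 0, 1, 1, 3, 5, 5],
    [0, 0, 1, 1, 3, 4, 5],
    [0, 0, 1, 1, 2, 3, 3, 4, 4, 5],
    [0, 0, 1, 1, 2, 2, 3, 4, 4],
    [0, 0, 1, 1, 2, 2, 3, 3, 4, 5, 5],
    [0, 0, 1, 1, 2, 2, 5],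
    [0, 0, 1, 1, 5],
    [0, 0, 1, 1, 2, 5],
    [0, 1, 2, 2, 3, 4, 4],
    [0, 1, 4],
    [0, 1, 2, 2, 3, 3, 4, 5, 5],
    [0, 1, 3, 5, 5],
    [0, 1, 2, 5],
    [0, 1, 3, 3],
    [0, 1, 4, 4, 5, 5],
    [0, 1, 2, 2, 3, 3, 4, 4, 5],
    [0, 1, 2, 3, 4, 4],
    [0, 1, 2, 2, 3, 5, 5],
    [0, 1, 2, 2, 4],
    [0, 1, 2, 3, 3, 4, 5, 5],
    [0, 1, 2, 2, 4, 4, 5, 5],
    [0, 1, 2, 2, 3, 3],
    [0, 1, 5],
    [0, 1, 2, 3, 3, 4, 4, 5],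
    [0, 1, 2, 3, 5, 5],
    [0, 1, 3, 4, 4],
    [0, 1, 3, 3, 4, 5, 5],
    [0, 1, 2, 4],
    [0, 1, 2, 2, 3, 4, 5],
    [0, 1, 3, 4, 5],
    [0, 1, 2, 2, 5],
    [0, 1, 3, 3, 4, 4, 5],
    [0, 1, 2, 3, 3],
    [0, 1, 2, 4, 4, 5, 5],
    [0, 1, 2, 3, 4, 5],
    [0, 1, 4, 5, 5],
    [0, 1, 2, 2],
    [0, 1, 2, 3, 4],
    [0, 1, 3, 5],
    [0, 1, 2, 2, 3, 3, 4, 5],
    [0, 1, 2, 4, 4, 5],
    [0, 1, 2, 2, 3, 4, 4, 5, 5],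
    [0, 1, 2, 3, 3, 5, 5],
    [0, 1, 2, 2, 4, 5, 5],
    [0, 1, 2, 2, 3, 5],
    [0, 1, 2],
    [0, 1, 3, 4],
    [0, 1, 2, 3, 4, 4, 5, 5],
    [0, 1, 4, 4, 5],
    [0, 1, 2, 3, 3, 4, 5],
    [0, 1, 3, 3, 5, 5],
    [0, 1, 2, 3, 5],
    [0, 1, 2, 4, 5, 5],
    [0, 1, 2, 2, 3, 4],
    [0, 1],
    [0, 1, 3, 3, 4, 4],
    [0, 1, 2, 3, 3, 4, 4],
    [0, 1, 3, 3, 4, 5],
    [0, 1, 2, 2, 3, 3, 5, 5],
    [0, 1, 2, 2, 4, 4, 5],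
    [0, 1, 3, 4, 4, 5, 5],
    [0, 1, 2, 2, 3, 3, 4, 4],
    [0, 1, 2, 3, 3, 5],
    [0, 1, 2, 4, 4],
    [0, 1, 4, 5],
    [0, 1, 3],
    [0, 1, 3, 4, 4, 5],
    [0, 1, 2, 2, 3, 4, 5, 5],
    [0, 1, 2, 3, 3, 4, 4, 5, 5],
    [0, 1, 3, 3, 4],
    [0, 1, 3, 3, 5],
    [0, 1, 2, 2, 3],
    [0, 1, 4, 4],
    [0, 1, 2, 2, 4, 5],
    [0, 1, 3, 3, 4, 4, 5, 5],
    [0, 1, 2, 3, 4, 5, 5],
    [0, 1, 2, 2, 3, 4, 4, 5],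
    [0, 1, 2, 2, 3, 3, 4],
    [0, 1, 2, 3],
    [0, 1, 2, 2, 3, 3, 5],
    [0, 1, 2, 4, 5],
    [0, 1, 2, 2, 4, 4],
    [0, 1, 2, 5, 5],
    [0, 1, 2, 2, 5, 5],
    [0, 1, 2, 3, 4, 4, 5],
    [0, 1, 2, 3, 3, 4],
    [0, 1, 3, 4, 5, 5],
    [0, 1, 2, 2, 3, 3, 4, 4, 5, 5],
    [0, 1, 5, 5]]

/-- Words for the inner elements. -/
def inner3 : List (List ℕ) := [
    [],
    [3, 4, 4, 5, 5],
    [3, 5],
    [3, 3, 4, 4],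
    [3, 3, 4, 5],
    [4, 5, 5],
    [4, 4, 5],
    [3, 3, 5, 5],
    [3, 4],
    [3, 3, 4, 5, 5],
    [3, 5, 5],
    [3, 4, 4],
    [4, 4, 5, 5],
    [5],
    [3, 3, 4, 4, 5],
    [4],
    [3, 3],
    [3, 4, 5],
    [3, 3, 5],
    [3, 4, 5, 5],
    [3],
    [4, 4],
    [3, 3, 4, 4, 5, 5],
    [4, 5],
    [5, 5],
    [3, 4, 4, 5],
    [3, 3, 4]]

/-- An equation. -/
def eq3_0 : CfsgLib.Schur.Tails.Form := [(-1, 0), (1, 0), (1, 16), (1, 16)]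

/-- An equation. -/
def eq3_1 : CfsgLib.Schur.Tails.Form := [(-1, 0), (1, 6), (1, 9), (1, 6), (1, 9), (1, 9), (1, 6), (1, 0), (1, 17), (1, 17), (1, 19), (1, 19), (1, 19), (1, 19), (1, 19), (1, 19), (1, 3)]

/-- An equation. -/
def eq3_2 : CfsgLib.Schur.Tails.Form := [(-1, 6), (1, 1), (1, 16), (-1, 6), (-1, 6), (-1, 10), (-1, 19), (-1, 17), (-1, 10), (-1, 10), (-1, 1), (-1, 19), (-1, 19), (-1, 19), (-1, 5), (-1, 19), (-1, 3)]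

/-- An equation. -/
def eq3_3 : CfsgLib.Schur.Tails.Form := [(-1, 6), (1, 8), (1, 12), (1, 9), (1, 9), (1, 7), (1, 6), (1, 11), (1, 15), (1, 15), (1, 3), (-1, 7), (-1, 13), (-1, 8), (-1, 19), (-1, 19), (-1, 15), (-1, 15), (-1, 3)]

/-- An equation. -/
def eq3_4 : CfsgLib.Schur.Tails.Form := [(-1, 6), (1, 10), (1, 16), (1, 9), (1, 6), (-1, 9), (-1, 10), (-1, 19)]

/-- An equation. -/
def eq3_5 : CfsgLib.Schur.Tails.Form := [(-1, 6), (1, 13), (1, 16), (1, 16), (1, 12), (1, 6), (1, 5), (-1, 12), (-1, 17), (-1, 17), (-1, 13), (-1, 5), (-1, 19), (-1, 15)]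

/-- An equation. -/
def eq3_6 : CfsgLib.Schur.Tails.Form := [(-1, 6), (1, 17), (1, 16), (1, 6), (-1, 16), (-1, 17), (-1, 19)]

/-- An equation. -/
def eq3_7 : CfsgLib.Schur.Tails.Form := [(-1, 0), (1, 7), (1, 12), (1, 7), (1, 16), (1, 16), (1, 12), (1, 12), (1, 7), (1, 0), (1, 18), (1, 18), (1, 20), (1, 20), (1, 20), (1, 20), (1, 5), (1, 20), (1, 4), (1, 5)]

/-- An equation. -/
def eq3_8 : CfsgLib.Schur.Tails.Form := [(-1, 7), (1, 2), (-1, 7), (-1, 7), (-1, 14), (-1, 14), (-1, 14), (-1, 2), (-1, 4)]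

/-- An equation. -/
def eq3_9 : CfsgLib.Schur.Tails.Form := [(-1, 7), (1, 11), (1, 9), (1, 7), (1, 15), (-1, 9), (-1, 11)]

/-- An equation. -/
def eq3_10 : CfsgLib.Schur.Tails.Form := [(-1, 7), (1, 14), (1, 12), (1, 7), (-1, 12), (-1, 18), (-1, 18), (-1, 14), (-1, 20), (-1, 20)]

/-- An equation. -/
def eq3_11 : CfsgLib.Schur.Tails.Form := [(-1, 7), (1, 18), (1, 16), (1, 7), (-1, 16), (-1, 18), (-1, 20)]

/-- An equation. -/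
def eq3_12 : CfsgLib.Schur.Tails.Form := [(-1, 0), (1, 9), (1, 9), (1, 9), (1, 0), (1, 19), (1, 19)]

/-- An equation. -/
def eq3_13 : CfsgLib.Schur.Tails.Form := [(-1, 9), (1, 3), (-1, 9), (-1, 9), (-1, 3)]

/-- An equation. -/
def eq3_14 : CfsgLib.Schur.Tails.Form := [(-1, 9), (1, 15), (1, 12), (1, 9), (-1, 12), (-1, 19), (-1, 19), (-1, 15)]

/-- An equation. -/
def eq3_15 : CfsgLib.Schur.Tails.Form := [(-1, 9), (1, 19), (1, 16), (1, 9), (-1, 16), (-1, 19)]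

/-- An equation. -/
def eq3_16 : CfsgLib.Schur.Tails.Form := [(-1, 0), (1, 12), (1, 16), (1, 16), (1, 12), (1, 5), (1, 16), (1, 12), (1, 0), (1, 20), (1, 20), (1, 5)]

/-- An equation. -/
def eq3_17 : CfsgLib.Schur.Tails.Form := [(-1, 12), (1, 4), (-1, 12), (-1, 12), (-1, 20), (-1, 20), (-1, 5), (-1, 20), (-1, 4), (-1, 5)]

/-- An equation. -/
def eq3_18 : CfsgLib.Schur.Tails.Form := [(-1, 12), (1, 20), (1, 16), (1, 12), (1, 5), (-1, 16), (-1, 20), (-1, 5)]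

/-- An equation. -/
def eq3_19 : CfsgLib.Schur.Tails.Form := [(-1, 0), (1, 16), (1, 16), (1, 16), (1, 0), (1, 5), (-1, 5)]

/-- An equation. -/
def eq3_20 : CfsgLib.Schur.Tails.Form := [(-1, 16), (1, 5), (-1, 16), (-1, 16), (-1, 5)]

/-- An equation. -/
def eq3_21 : CfsgLib.Schur.Tails.Form := [(-1, 1), (1, 1), (1, 17)]

/-- An equation. -/
def eq3_22 : CfsgLib.Schur.Tails.Form := [(-1, 1), (1, 8), (1, 13), (1, 10), (1, 10), (1, 8), (1, 15), (1, 3), (1, 19), (1, 15), (1, 20), (1, 20), (1, 5), (1, 17), (1, 13), (1, 13), (1, 10), (1, 8), (1, 1), (1, 18), (1, 19), (1, 19), (1, 20), (1, 19), (1, 15), (1, 3), (1, 20), (1, 20), (1, 5), (1, 20), (1, 4), (1, 5)]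

/-- An equation. -/
def eq3_23 : CfsgLib.Schur.Tails.Form := [(-1, 8), (1, 2), (-1, 8), (-1, 8), (-1, 14), (-1, 11), (-1, 11), (-1, 15), (-1, 3), (-1, 15), (-1, 14), (-1, 14), (-1, 11), (-1, 2), (-1, 15), (-1, 15), (-1, 15), (-1, 15), (-1, 3), (-1, 4)]

/-- An equation. -/
def eq3_24 : CfsgLib.Schur.Tails.Form := [(-1, 8), (1, 11), (1, 10), (1, 8), (1, 15), (1, 3), (-1, 10), (-1, 18), (-1, 11), (-1, 19), (-1, 19), (-1, 3), (-1, 20)]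

/-- An equation. -/
def eq3_25 : CfsgLib.Schur.Tails.Form := [(-1, 8), (1, 14), (1, 13), (1, 8), (-1, 13), (-1, 18), (-1, 18), (-1, 14), (-1, 19), (-1, 19), (-1, 15), (-1, 19), (-1, 19), (-1, 15), (-1, 20), (-1, 20)]

/-- An equation. -/
def eq3_26 : CfsgLib.Schur.Tails.Form := [(-1, 8), (1, 18), (1, 17), (1, 8), (-1, 17), (-1, 18), (-1, 19), (-1, 19), (-1, 20)]

/-- An equation. -/
def eq3_27 : CfsgLib.Schur.Tails.Form := [(-1, 1), (1, 10), (1, 17), (1, 10), (1, 17), (1, 17), (1, 10), (1, 1), (1, 19), (1, 5)]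

/-- An equation. -/
def eq3_28 : CfsgLib.Schur.Tails.Form := [(-1, 10), (1, 3), (-1, 10), (-1, 10), (-1, 19), (-1, 19), (-1, 19), (-1, 3), (-1, 5)]

/-- An equation. -/
def eq3_29 : CfsgLib.Schur.Tails.Form := [(-1, 10), (1, 15), (1, 13), (1, 10), (1, 20), (1, 5), (-1, 13), (-1, 19), (-1, 19), (-1, 15), (-1, 5)]

/-- An equation. -/
def eq3_30 : CfsgLib.Schur.Tails.Form := [(-1, 10), (1, 19), (1, 17), (1, 10), (-1, 17), (-1, 19)]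

/-- An equation. -/
def eq3_31 : CfsgLib.Schur.Tails.Form := [(-1, 1), (1, 13), (1, 17), (1, 17), (1, 13), (1, 5), (1, 17), (1, 13), (1, 1), (1, 20), (1, 5)]

/-- An equation. -/
def eq3_32 : CfsgLib.Schur.Tails.Form := [(-1, 13), (1, 4), (-1, 13), (-1, 13), (-1, 20), (-1, 20), (-1, 5), (-1, 20), (-1, 4), (-1, 5)]

/-- An equation. -/
def eq3_33 : CfsgLib.Schur.Tails.Form := [(-1, 13), (1, 20), (1, 17), (1, 13), (1, 5), (-1, 17), (-1, 20), (-1, 5)]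

/-- An equation. -/
def eq3_34 : CfsgLib.Schur.Tails.Form := [(-1, 1), (1, 17), (1, 17), (1, 17), (1, 1)]

/-- An equation. -/
def eq3_35 : CfsgLib.Schur.Tails.Form := [(-1, 17), (1, 5), (-1, 17), (-1, 17), (-1, 5)]

/-- An equation. -/
def eq3_36 : CfsgLib.Schur.Tails.Form := [(-1, 2), (1, 2)]

/-- An equation. -/
def eq3_37 : CfsgLib.Schur.Tails.Form := [(-1, 2), (1, 11), (1, 11), (1, 11), (1, 2)]

/-- An equation. -/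
def eq3_38 : CfsgLib.Schur.Tails.Form := [(-1, 11), (1, 3), (-1, 11), (-1, 11), (-1, 3)]

/-- An equation. -/
def eq3_39 : CfsgLib.Schur.Tails.Form := [(-1, 11), (1, 15), (1, 14), (1, 11), (-1, 14), (-1, 15)]

/-- An equation. -/
def eq3_40 : CfsgLib.Schur.Tails.Form := [(-1, 11), (1, 19), (1, 18), (1, 11), (-1, 18), (-1, 19)]

/-- An equation. -/
def eq3_41 : CfsgLib.Schur.Tails.Form := [(-1, 2), (1, 14), (1, 14), (1, 14), (1, 2)]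

/-- An equation. -/
def eq3_42 : CfsgLib.Schur.Tails.Form := [(-1, 14), (1, 4), (-1, 14), (-1, 14), (-1, 4)]

/-- An equation. -/
def eq3_43 : CfsgLib.Schur.Tails.Form := [(-1, 14), (1, 20), (1, 18), (1, 14), (-1, 18), (-1, 20)]

/-- An equation. -/
def eq3_44 : CfsgLib.Schur.Tails.Form := [(-1, 2), (1, 18), (1, 18), (1, 18), (1, 2)]

/-- An equation. -/
def eq3_45 : CfsgLib.Schur.Tails.Form := [(-1, 18), (1, 5), (-1, 18), (-1, 18), (-1, 5)]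

/-- An equation. -/
def eq3_46 : CfsgLib.Schur.Tails.Form := [(-1, 3), (1, 3)]

/-- An equation. -/
def eq3_47 : CfsgLib.Schur.Tails.Form := [(-1, 3), (1, 15), (1, 15), (1, 15), (1, 3)]

/-- An equation. -/
def eq3_48 : CfsgLib.Schur.Tails.Form := [(-1, 15), (1, 4), (-1, 15), (-1, 15), (-1, 4)]

/-- An equation. -/
def eq3_49 : CfsgLib.Schur.Tails.Form := [(-1, 15), (1, 20), (1, 19), (1, 15), (-1, 19), (-1, 20)]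

/-- An equation. -/
def eq3_50 : CfsgLib.Schur.Tails.Form := [(-1, 3), (1, 19), (1, 19), (1, 19), (1, 3)]

/-- An equation. -/
def eq3_51 : CfsgLib.Schur.Tails.Form := [(-1, 19), (1, 5), (-1, 19), (-1, 19), (-1, 5)]

/-- An equation. -/
def eq3_52 : CfsgLib.Schur.Tails.Form := [(-1, 4), (1, 4)]

/-- An equation. -/
def eq3_53 : CfsgLib.Schur.Tails.Form := [(-1, 4), (1, 20), (1, 20), (1, 20), (1, 4)]

/-- An equation. -/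
def eq3_54 : CfsgLib.Schur.Tails.Form := [(-1, 20), (1, 5), (-1, 20), (-1, 20), (-1, 5)]

/-- An equation. -/
def eq3_55 : CfsgLib.Schur.Tails.Form := [(-1, 5), (1, 5)]

/-- An equation. -/
def eq3_56 : CfsgLib.Schur.Tails.Form := [(1, 16), (1, 16), (1, 9), (1, 9), (1, 7), (1, 7), (1, 6), (1, 6), (1, 10), (1, 19), (1, 18), (1, 11), (1, 11), (1, 20), (1, 18), (1, 14), (1, 11), (1, 11), (1, 20), (1, 19), (1, 15), (1, 15), (1, 3), (1, 19), (1, 15), (1, 15), (1, 5), (1, 13), (1, 13), (1, 10), (1, 8), (1, 8), (1, 1), (1, 18), (1, 19), (1, 19), (1, 20), (1, 18), (1, 14), (1, 11), (1, 11), (1, 19), (1, 15), (1, 3), (1, 19), (1, 15), (1, 20), (1, 19), (1, 15), (1, 15), (1, 20), (1, 20), (1, 4), (1, 5), (1, 20), (1, 5), (1, 13), (1, 10), (1, 10), (1, 8), (1, 8), (1, 14), (1, 11), (1, 11), (1, 15), (1, 3), (1, 15), (1, 15),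 (1, 15), (1, 19), (1, 15), (1, 15), (1, 3), (1, 20), (1, 20), (1, 4), (1, 5), (1, 18), (1, 2), (1, 18), (1, 19), (1, 19), (1, 5), (1, 9), (1, 9), (1, 7), (1, 6), (1, 0), (1, 17), (1, 17), (1, 19), (1, 19), (1, 18), (1, 18), (1, 11), (1, 20), (1, 20), (1, 19), (1, 19), (1, 15), (1, 19), (1, 19), (1, 15), (1, 3), (1, 17), (1, 17), (1, 13), (1, 8), (1, 5), (1, 17), (1, 13), (1, 13), (1, 10), (1, 10), (1, 8), (1, 1), (1, 18), (1, 19), (1, 19), (1, 20), (1, 19), (1, 15), (1, 3), (1, 19), (1, 19), (1, 15), (1, 5), (1, 20), (1, 20), (1, 4), (1, 5), (1, 18), (1, 18), (1, 11), (1, 18), (1, 18), (1, 11), (1, 2), (1, 19), (1, 19), (1, 19), (1, 19), (1, 3), (1, 5), (-1, 5), (1, 21), (1, 21), (1, 21), (-1, 26), (-1, 26), (-1, 0)]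

/-- An equation. -/
def eq3_57 : CfsgLib.Schur.Tails.Form := [(1, 16), (1, 12), (1, 9), (1, 7), (1, 6), (1, 6), (1, 0), (1, 17), (1, 17), (1, 19), (1, 19), (1, 17), (1, 17), (1, 10), (1, 5), (1, 11), (1, 11), (1, 15), (1, 3), (1, 5), (1, 12), (1, 12), (1, 7), (1, 6), (1, 6), (1, 10), (1, 19), (1, 18), (1, 11), (1, 11), (1, 20), (1, 20), (1, 5), (1, 4), (1, 17), (1, 17), (1, 10), (1, 10), (1, 8), (1, 1), (1, 18), (1, 19), (1, 19), (1, 20), (1, 19), (1, 15), (1, 3), (1, 19), (1, 19), (1, 15), (1, 5), (1, 17), (1, 17), (1, 13), (1, 10), (1, 8), (1, 15), (1, 3), (1, 20), (1, 5), (1, 18), (1, 18), (1, 14), (1, 14), (1, 19), (1, 19), (1, 15), (1, 15), (1, 20), (1, 20), (1, 4), (1, 5), (1, 9), (1, 7), (1, 7), (1, 6), (1, 11), (1, 14), (1, 11), (1, 15), (1, 15), (1, 12), (1, 12), (1, 9), (1, 9), (1, 7), (1, 7), (1, 6),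 (1, 0), (1, 17), (1, 17), (1, 19), (1, 19), (1, 18), (1, 18), (1, 11), (1, 20), (1, 20), (1, 18), (1, 18), (1, 14), (1, 11), (1, 20), (1, 20), (1, 19), (1, 19), (1, 15), (1, 15), (1, 19), (1, 19), (1, 15), (1, 15), (1, 3), (1, 20), (1, 20), (1, 4), (1, 5), (1, 20), (1, 5), (1, 13), (1, 8), (1, 8), (1, 14), (1, 11), (1, 11), (1, 15), (1, 3), (1, 15), (1, 4), (1, 17), (1, 17), (1, 10), (1, 8), (1, 8), (1, 1), (1, 18), (1, 19), (1, 19), (1, 20), (1, 18), (1, 14), (1, 11), (1, 11), (1, 19), (1, 15), (1, 3), (1, 19), (1, 15), (1, 20), (1, 19), (1, 15), (1, 15), (1, 5), (1, 18), (1, 14), (1, 14), (1, 11), (1, 11), (1, 2), (1, 19), (1, 15), (1, 15), (1, 3), (1, 20), (1, 4), (1, 22), (1, 22), (1, 22), (-1, 26), (-1, 1)]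

/-- An equation. -/
def eq3_58 : CfsgLib.Schur.Tails.Form := [(1, 11), (1, 2), (1, 11), (1, 11), (1, 11), (1, 11), (1, 11), (1, 2), (1, 3), (1, 23), (1, 23), (1, 23), (-1, 2)]

/-- An equation. -/
def eq3_59 : CfsgLib.Schur.Tails.Form := [(1, 4), (1, 24), (1, 24), (1, 24), (-1, 3)]

/-- An equation. -/
def eq3_60 : CfsgLib.Schur.Tails.Form := [(1, 3), (1, 3), (1, 25), (1, 25), (1, 25), (-1, 4)]

/-- An equation. -/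
def eq3_61 : CfsgLib.Schur.Tails.Form := [(1, 5), (1, 5), (1, 26), (1, 26), (1, 26), (-1, 5)]

/-- An equation. -/
def eq3_62 : CfsgLib.Schur.Tails.Form := [(1, 16), (1, 12), (1, 9), (1, 7), (1, 6), (1, 6), (1, 0), (1, 17), (1, 17), (1, 19), (1, 19), (1, 17), (1, 17), (1, 10), (1, 5), (1, 11), (1, 11), (1, 15), (1, 3), (1, 5), (1, 13), (1, 13), (1, 8), (1, 1), (1, 18), (1, 19), (1, 19), (1, 20), (1, 20), (1, 5), (1, 4), (1, 17), (1, 17), (1, 10), (1, 10), (1, 8), (1, 15), (1, 3), (1, 19), (1, 15), (1, 5), (1, 18), (1, 14), (1, 11), (1, 18), (1, 14), (1, 11), (1, 2), (1, 19), (1, 15), (1, 19), (1, 15), (1, 3), (1, 5), (-1, 16), (-1, 16), (-1, 9), (-1, 9), (-1, 7), (-1, 7), (-1, 6), (-1, 6), (-1, 10), (-1, 19), (-1, 18), (-1, 11), (-1, 11), (-1, 20), (-1, 18), (-1, 14), (-1, 11), (-1, 11), (-1, 20), (-1, 19), (-1,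 15), (-1, 15), (-1, 3), (-1, 19), (-1, 15), (-1, 15), (-1, 5), (-1, 12), (-1, 12), (-1, 9), (-1, 7), (-1, 7), (-1, 6), (-1, 6), (-1, 0), (-1, 17), (-1, 17), (-1, 19), (-1, 19), (-1, 17), (-1, 17), (-1, 10), (-1, 5), (-1, 11), (-1, 11), (-1, 14), (-1, 11), (-1, 11), (-1, 15), (-1, 15), (-1, 3), (-1, 4), (-1, 20), (-1, 20), (-1, 5), (-1, 17), (-1, 13), (-1, 8), (-1, 8), (-1, 1), (-1, 18), (-1, 19), (-1, 19), (-1, 20), (-1, 18), (-1, 14), (-1, 11), (-1, 11), (-1, 19), (-1, 15), (-1, 3), (-1, 19), (-1, 15), (-1, 20), (-1, 20), (-1, 4), (-1, 5), (-1, 17), (-1, 10), (-1, 8), (-1, 8), (-1, 14), (-1, 11), (-1, 11), (-1, 15), (-1, 3), (-1, 15), (-1, 15), (-1, 15), (-1, 18), (-1, 18), (-1, 14), (-1, 14), (-1, 11), (-1, 11), (-1, 2), (-1, 19), (-1, 19), (-1, 15), (-1, 15), (-1, 3), (-1, 20), (-1, 20), (-1, 4), (-1, 5), (1,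 22), (1, 21), (-1, 21), (-1, 22), (-1, 24), (-1, 6)]

/-- An equation. -/
def eq3_63 : CfsgLib.Schur.Tails.Form := [(1, 9), (1, 7), (1, 7), (1, 14), (1, 15), (1, 15), (1, 13), (1, 13), (1, 10), (1, 8), (1, 8), (1, 14), (1, 11), (1, 11), (1, 15), (1, 3), (1, 15), (1, 15), (1, 15), (1, 20), (1, 4), (1, 5), (1, 17), (1, 17), (1, 13), (1, 10), (1, 10), (1, 8), (1, 8), (1, 14), (1, 11), (1, 11), (1, 15), (1, 3), (1, 15), (1, 15), (1, 15), (1, 19), (1, 15), (1, 15), (1, 3), (1, 20), (1, 20), (1, 4), (1, 5), (1, 5), (1, 2), (-1, 18), (-1, 18), (-1, 11), (-1, 11), (-1, 2), (-1, 18), (-1, 18), (-1, 11), (-1, 11), (-1, 19), (-1, 19), (-1, 3), (-1, 19), (-1, 19), (-1, 19), (-1, 19), (1, 23), (1, 21), (-1, 21), (-1, 23), (-1, 25), (-1, 7)]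

/-- An equation. -/
def eq3_64 : CfsgLib.Schur.Tails.Form := [(1, 9), (1, 7), (1, 7), (1, 14), (1, 15), (1, 15), (1, 12), (1, 12), (1, 9), (1, 7), (1, 7), (1, 14), (1, 15), (1, 15), (1, 4), (1, 20), (1, 20), (1, 5), (1, 17), (1, 13), (1, 10), (1, 8), (1, 8), (1, 14), (1, 11), (1, 11), (1, 15), (1, 3), (1, 15), (1, 15), (1, 15), (1, 20), (1, 4), (1, 5), (1, 17), (1, 10), (1, 10), (1, 8), (1, 8), (1, 14), (1, 11), (1, 11), (1, 15), (1, 3), (1, 15), (1, 15), (1, 15), (1, 19), (1, 15), (1, 15), (1, 3), (1, 5), (1, 14), (1, 14), (1, 2), (1, 15), (1, 15), (1, 4), (-1, 18), (-1, 14), (-1, 11), (-1, 18), (-1, 14), (-1, 11), (-1, 2), (-1, 19), (-1, 15), (-1, 20), (-1, 20), (-1, 4), (-1, 19), (-1, 3), (-1, 19), (1, 23), (1, 22), (-1, 22), (-1, 23), (-1, 24), (-1, 24), (-1, 25), (-1, 8)]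

/-- An equation. -/
def eq3_65 : CfsgLib.Schur.Tails.Form := [(1, 12), (1, 17), (1, 17), (1, 13), (1, 5), (1, 17), (1, 13), (1, 5), (1, 14), (1, 14), (1, 15), (1, 15), (-1, 20), (-1, 20), (1, 24), (1, 21), (-1, 21), (-1, 24), (-1, 9)]

/-- An equation. -/
def eq3_66 : CfsgLib.Schur.Tails.Form := [(1, 12), (1, 16), (1, 16), (1, 12), (1, 5), (1, 17), (1, 13), (1, 5), (1, 13), (1, 18), (1, 18), (1, 14), (1, 19), (1, 19), (1, 15), (1, 20), (1, 20), (1, 5), (-1, 20), (-1, 5), (1, 24), (1, 22), (-1, 22), (-1, 24), (-1, 26), (-1, 10)]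

/-- An equation. -/
def eq3_67 : CfsgLib.Schur.Tails.Form := [(1, 14), (1, 14), (1, 15), (1, 24), (1, 23), (-1, 23), (-1, 24), (-1, 11)]

/-- An equation. -/
def eq3_68 : CfsgLib.Schur.Tails.Form := [(1, 9), (1, 9), (1, 10), (1, 10), (1, 19), (1, 17), (1, 17), (1, 10), (1, 10), (1, 19), (1, 5), (1, 18), (1, 11), (1, 11), (1, 18), (1, 11), (1, 11), (1, 19), (1, 3), (1, 19), (1, 5), (-1, 19), (-1, 19), (-1, 3), (-1, 19), (-1, 19), (-1, 5), (-1, 5), (1, 25), (1, 21), (-1, 21), (-1, 25), (-1, 26), (-1, 26), (-1, 12)]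

/-- An equation. -/
def eq3_69 : CfsgLib.Schur.Tails.Form := [(1, 9), (1, 9), (1, 9), (1, 9), (1, 10), (1, 10), (1, 19), (1, 17), (1, 17), (1, 10), (1, 10), (1, 19), (1, 5), (1, 18), (1, 11), (1, 11), (1, 19), (1, 3), (1, 20), (-1, 19), (-1, 15), (-1, 19), (-1, 15), (-1, 3), (-1, 5), (1, 25), (1, 22), (-1, 22), (-1, 25), (-1, 26), (-1, 26), (-1, 13)]

/-- An equation. -/
def eq3_70 : CfsgLib.Schur.Tails.Form := [(1, 11), (1, 11), (1, 11), (1, 11), (1, 3), (-1, 3), (1, 25), (1, 23), (-1, 23), (-1, 25), (-1, 14)]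

/-- An equation. -/
def eq3_71 : CfsgLib.Schur.Tails.Form := [(-1, 15), (-1, 15), (1, 25), (1, 24), (-1, 24), (-1, 25), (-1, 15)]

/-- An equation. -/
def eq3_72 : CfsgLib.Schur.Tails.Form := [(1, 16), (1, 16), (1, 17), (1, 17), (1, 17), (1, 17), (1, 18), (1, 18), (1, 18), (1, 18), (1, 19), (1, 19), (1, 19), (1, 19), (1, 5), (-1, 5), (1, 26), (1, 21), (-1, 21), (-1, 26), (-1, 16)]

/-- An equation. -/
def eq3_73 : CfsgLib.Schur.Tails.Form := [(1, 16), (1, 16), (1, 16), (1, 16), (1, 17), (1, 17), (1, 17), (1, 17), (1, 18), (1, 18), (1, 19), (1, 19), (1, 20), (1, 20), (1, 5), (-1, 5), (1, 26), (1, 22), (-1, 22), (-1, 26), (-1, 17)]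

/-- An equation. -/
def eq3_74 : CfsgLib.Schur.Tails.Form := [(1, 18), (1, 18), (1, 18), (1, 18), (1, 19), (1, 19), (1, 26), (1, 23), (-1, 23), (-1, 26), (-1, 18)]

/-- An equation. -/
def eq3_75 : CfsgLib.Schur.Tails.Form := [(1, 20), (1, 20), (1, 26), (1, 24), (-1, 24), (-1, 26), (-1, 19)]

/-- An equation. -/
def eq3_76 : CfsgLib.Schur.Tails.Form := [(1, 19), (1, 19), (1, 19), (1, 19), (1, 26), (1, 25), (-1, 25), (-1, 26), (-1, 20)]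

/-- An equation. -/
def eq3_77 : CfsgLib.Schur.Tails.Form := [(1, 16), (1, 7), (1, 6), (1, 11), (1, 17), (1, 13), (1, 10), (1, 8), (1, 15), (1, 3), (1, 20), (1, 5), (1, 18), (1, 14), (1, 14), (1, 16), (1, 16), (1, 12), (1, 12), (1, 7), (1, 7), (1, 6), (1, 6), (1, 0), (1, 17), (1, 17), (1, 19), (1, 19), (1, 17), (1, 17), (1, 10), (1, 5), (1, 11), (1, 11), (1, 14), (1, 11), (1, 11), (1, 4), (1, 20), (1, 20), (1, 5), (1, 5), (1, 13), (1, 10), (1, 10), (1, 8), (1, 8), (1, 1), (1, 18), (1, 19), (1, 19), (1, 20), (1, 18), (1, 14), (1, 11), (1, 11), (1, 19), (1, 15), (1, 3), (1, 19), (1, 15), (1, 20), (1, 19), (1, 15), (1, 15), (1, 19), (1, 19), (1, 15), (1, 15), (1, 3), (1, 5), (1, 4), (1, 18), (1, 18), (1, 2), (1, 5), (1, 27), (1, 27), (1, 27), (-1, 12), (-1, 9), (-1, 7), (-1, 7), (-1, 14), (-1, 15), (-1, 15), (-1,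 4), (-1, 18), (-1, 18), (-1, 11), (-1, 2), (-1, 18), (-1, 18), (-1, 11), (-1, 19), (-1, 19), (-1, 20), (-1, 20), (-1, 16), (-1, 16), (-1, 12), (-1, 9), (-1, 9), (-1, 7), (-1, 0), (-1, 18), (-1, 18), (-1, 20), (-1, 20), (-1, 19), (-1, 19), (-1, 15), (-1, 19), (-1, 19), (-1, 15), (-1, 20), (-1, 20), (-1, 5), (-1, 5), (-1, 14), (-1, 14), (-1, 11), (-1, 11), (-1, 14), (-1, 14), (-1, 11), (-1, 11), (-1, 2), (-1, 15), (-1, 15), (-1, 3), (-1, 4)]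

/-- An equation. -/
def eq3_78 : CfsgLib.Schur.Tails.Form := [(1, 16), (1, 16), (1, 12), (1, 7), (1, 6), (1, 11), (1, 5), (1, 17), (1, 13), (1, 13), (1, 10), (1, 8), (1, 15), (1, 3), (1, 20), (1, 5), (1, 4), (1, 5), (1, 16), (1, 16), (1, 12), (1, 7), (1, 7), (1, 6), (1, 6), (1, 0), (1, 17), (1, 17), (1, 19), (1, 19), (1, 17), (1, 17), (1, 10), (1, 5), (1, 11), (1, 11), (1, 14), (1, 11), (1, 11), (1, 4), (1, 5), (1, 17), (1, 10), (1, 10), (1, 8), (1, 8), (1, 1), (1, 18), (1, 19), (1, 19), (1, 20), (1, 18), (1, 14), (1, 11), (1, 11), (1, 19), (1, 15), (1, 3), (1, 19), (1, 15), (1, 20), (1, 19), (1, 15), (1, 15), (1, 19), (1, 19), (1, 15), (1, 15), (1, 3), (1, 5), (1, 18), (1, 14), (1, 14), (1, 2), (1, 20), (1, 4), (1, 5), (1, 28), (1, 28), (1, 28), (-1, 17), (-1, 13), (-1, 10), (-1, 10), (-1, 8), (-1, 8), (-1, 14),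 (-1, 11), (-1, 11), (-1, 15), (-1, 3), (-1, 15), (-1, 15), (-1, 15), (-1, 19), (-1, 15), (-1, 15), (-1, 3), (-1, 20), (-1, 20), (-1, 4), (-1, 5), (-1, 18), (-1, 18), (-1, 2), (-1, 18), (-1, 18), (-1, 19), (-1, 19), (-1, 19), (-1, 19), (-1, 20), (-1, 20), (-1, 5), (-1, 13), (-1, 10), (-1, 10), (-1, 8), (-1, 1), (-1, 18), (-1, 19), (-1, 19), (-1, 20), (-1, 19), (-1, 15), (-1, 3), (-1, 19), (-1, 19), (-1, 15), (-1, 5), (-1, 18), (-1, 18), (-1, 14), (-1, 14), (-1, 11), (-1, 18), (-1, 18), (-1, 14), (-1, 14), (-1, 11), (-1, 2), (-1, 19), (-1, 19), (-1, 15), (-1, 15), (-1, 19), (-1, 19), (-1, 15), (-1, 15), (-1, 3), (-1, 20), (-1, 20), (-1, 4), (-1, 5)]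

/-- An equation. -/
def eq3_79 : CfsgLib.Schur.Tails.Form := [(1, 7), (1, 0), (1, 18), (1, 18), (1, 20), (1, 20), (1, 16), (1, 16), (1, 12), (1, 7), (1, 5), (1, 18), (1, 14), (1, 14), (1, 16), (1, 12), (1, 12), (1, 7), (1, 7), (1, 14), (1, 4), (1, 20), (1, 20), (1, 5), (1, 16), (1, 16), (1, 12), (1, 7), (1, 7), (1, 0), (1, 18), (1, 18), (1, 20), (1, 20), (1, 18), (1, 18), (1, 14), (1, 20), (1, 20), (1, 20), (1, 20), (1, 4), (1, 5), (1, 5), (1, 2), (1, 29), (1, 29), (1, 29), (-1, 19), (-1, 19), (-1, 19), (-1, 3), (-1, 5)]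

/-- An equation. -/
def eq3_80 : CfsgLib.Schur.Tails.Form := [(1, 9), (1, 9), (1, 7), (1, 6), (1, 11), (1, 15), (1, 15), (1, 3), (1, 13), (1, 8), (1, 18), (1, 18), (1, 14), (1, 14), (1, 11), (1, 11), (1, 19), (1, 19), (1, 15), (1, 15), (1, 3), (1, 19), (1, 19), (1, 15), (1, 15), (1, 16), (1, 16), (1, 12), (1, 12), (1, 9), (1, 7), (1, 7), (1, 6), (1, 6), (1, 0), (1, 17), (1, 17), (1, 19), (1, 19), (1, 17), (1, 17), (1, 10), (1, 5), (1, 11), (1, 11), (1, 14), (1, 11), (1, 11), (1, 15), (1, 15), (1, 3), (1, 4), (1, 20), (1, 20), (1, 5), (1, 5), (1, 13), (1, 8), (1, 8), (1, 1), (1, 18), (1, 19), (1, 19), (1, 20), (1, 18), (1, 14), (1, 11), (1, 11), (1, 19), (1, 15), (1, 3), (1, 19), (1, 15), (1, 20), (1, 20), (1, 4), (1, 5), (1, 11), (1, 2), (1, 3), (1, 30), (1, 30), (1, 30), (-1, 19), (-1, 19), (-1, 15), (-1, 15),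 (-1, 20), (-1, 20), (-1, 4), (-1, 20), (-1, 20), (-1, 5), (-1, 19), (-1, 15), (-1, 3), (-1, 20), (-1, 20), (-1, 4), (-1, 5)]

/-- An equation. -/
def eq3_81 : CfsgLib.Schur.Tails.Form := [(1, 5), (1, 31), (1, 31), (1, 31), (-1, 5), (-1, 5)]

/-- An equation. -/
def eq3_82 : CfsgLib.Schur.Tails.Form := [(1, 16), (1, 16), (1, 12), (1, 7), (1, 6), (1, 11), (1, 5), (1, 17), (1, 13), (1, 13), (1, 10), (1, 8), (1, 15), (1, 3), (1, 20), (1, 5), (1, 4), (1, 5), (-1, 16), (-1, 7), (-1, 6), (-1, 11), (-1, 17), (-1, 13), (-1, 10), (-1, 8), (-1, 15), (-1, 3), (-1, 20), (-1, 5), (-1, 18), (-1, 14), (-1, 14), (-1, 20), (-1, 4), (-1, 5), (1, 28), (1, 27), (-1, 27), (-1, 28), (-1, 31), (-1, 16), (-1, 12), (-1, 9), (-1, 9), (-1, 7), (-1, 7), (-1, 6), (-1, 11), (-1, 14), (-1, 11), (-1, 15), (-1, 15), (-1, 15), (-1, 15), (-1, 3),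 (-1, 4), (-1, 5), (-1, 2), (1, 13), (1, 10), (1, 8), (1, 8), (1, 14), (1, 11), (1, 11), (1, 15), (1, 3), (1, 15), (1, 15), (1, 15), (1, 20), (1, 4), (1, 5), (1, 11), (1, 11), (1, 2), (1, 11), (1, 11), (1, 3), (1, 5)]

/-- An equation. -/
def eq3_83 : CfsgLib.Schur.Tails.Form := [(1, 7), (1, 0), (1, 18), (1, 18), (1, 20), (1, 20), (1, 17), (1, 17), (1, 13), (1, 8), (1, 5), (1, 18), (1, 14), (1, 14), (1, 11), (1, 11), (-1, 16), (-1, 7), (-1, 6), (-1, 11), (-1, 16), (-1, 12), (-1, 9), (-1, 7), (-1, 6), (-1, 0), (-1, 17), (-1, 17), (-1, 19), (-1, 19), (-1, 18), (-1, 18), (-1, 11), (-1, 20), (-1, 20), (-1, 19), (-1, 19), (-1, 15), (-1, 20), (-1, 20), (-1, 5), (-1, 18), (-1, 18), (-1, 14), (-1, 14), (-1, 11), (-1, 11), (1, 29), (1, 27), (-1, 27), (-1, 29), (-1, 16), (-1, 9), (-1, 18), (-1, 11), (-1, 18), (-1, 11), (-1,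 19), (-1, 20), (1, 15)]

/-- An equation. -/
def eq3_84 : CfsgLib.Schur.Tails.Form := [(1, 7), (1, 0), (1, 18), (1, 18), (1, 20), (1, 20), (1, 17), (1, 17), (1, 13), (1, 8), (1, 5), (1, 18), (1, 14), (1, 14), (1, 11), (1, 11), (1, 20), (1, 4), (1, 5), (-1, 16), (-1, 16), (-1, 12), (-1, 7), (-1, 6), (-1, 11), (-1, 5), (-1, 16), (-1, 12), (-1, 12), (-1, 9), (-1, 7), (-1, 6), (-1, 0), (-1, 17), (-1, 17), (-1, 19), (-1, 19), (-1, 18), (-1, 18), (-1, 11), (-1, 20), (-1, 20), (-1, 19), (-1, 19), (-1, 15), (-1, 20), (-1, 20), (-1, 5), (-1, 20), (-1, 4), (-1, 5), (-1, 18), (-1, 11), (-1, 11), (-1, 5), (1, 29), (1, 28), (-1, 28), (-1, 29), (-1, 31), (-1, 31), (-1, 17), (-1, 10), (-1, 18), (-1, 18), (-1, 11), (-1, 18), (-1, 18), (-1, 11), (-1, 19), (-1, 19), (-1, 19), (-1, 19), (-1, 3), (-1, 20), (-1, 20), (-1, 5), (1, 19),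 (1, 15), (1, 3), (1, 5), (1, 5)]

/-- An equation. -/
def eq3_85 : CfsgLib.Schur.Tails.Form := [(1, 9), (1, 9), (1, 7), (1, 6), (1, 11), (1, 15), (1, 15), (1, 3), (1, 13), (1, 8), (1, 18), (1, 18), (1, 14), (1, 14), (1, 11), (1, 11), (1, 5), (-1, 16), (-1, 7), (-1, 6), (-1, 11), (-1, 17), (-1, 13), (-1, 10), (-1, 8), (-1, 15), (-1, 3), (-1, 20), (-1, 5), (-1, 18), (-1, 14), (-1, 14), (-1, 19), (-1, 15), (-1, 15), (-1, 19), (-1, 15), (-1, 15), (-1, 5), (1, 30), (1, 27), (-1, 27), (-1, 30), (-1, 31), (-1, 31), (-1, 16), (-1, 16), (-1, 12), (-1, 12), (-1, 9), (-1, 20), (-1, 20), (-1, 5), (-1, 5), (-1, 14), (-1, 14), (-1, 11), (-1, 14), (-1, 14), (-1, 11), (-1, 15), (-1, 15), (-1, 4), (1, 15), (1, 4), (1, 5), (1, 5)]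

/-- An equation. -/
def eq3_86 : CfsgLib.Schur.Tails.Form := [(1, 9), (1, 9), (1, 7), (1, 6), (1, 11), (1, 15), (1, 15), (1, 3), (1, 13), (1, 8), (1, 18), (1, 18), (1, 14), (1, 14), (1, 11), (1, 11), (1, 20), (1, 20), (1, 4), (1, 5), (-1, 16), (-1, 16), (-1, 12), (-1, 7), (-1, 6), (-1, 11), (-1, 5), (-1, 17), (-1, 13), (-1, 13), (-1, 10), (-1, 8), (-1, 15), (-1, 3), (-1, 20), (-1, 5), (-1, 4), (-1, 5), (1, 30), (1, 28), (-1, 28), (-1, 30), (-1, 31), (-1, 17), (-1, 17), (-1, 13), (-1, 13), (-1, 10), (-1, 20), (-1, 5), (-1, 5), (-1, 18), (-1, 14), (-1, 14), (-1, 11), (-1, 18), (-1, 14), (-1, 14), (-1, 11), (-1, 19), (-1, 15), (-1, 15), (-1, 19), (-1, 15), (-1, 15), (-1, 3), (-1, 20), (-1, 4), (1, 19), (1, 15), (1, 3), (1, 20), (1, 20), (1, 4), (1, 5)]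

/-- An equation. -/
def eq3_87 : CfsgLib.Schur.Tails.Form := [(1, 9), (1, 9), (1, 7), (1, 6), (1, 11), (1, 15), (1, 15), (1, 3), (1, 12), (1, 7), (1, 6), (1, 0), (1, 17), (1, 17), (1, 19), (1, 19), (1, 18), (1, 18), (1, 11), (1, 20), (1, 20), (1, 20), (1, 20), (1, 5), (1, 18), (1, 14), (1, 14), (1, 11), (-1, 7), (-1, 0), (-1, 18), (-1, 18), (-1, 20), (-1, 20), (-1, 17), (-1, 17), (-1, 13), (-1, 8), (-1, 5), (-1, 18), (-1, 14), (-1, 14), (-1, 11), (-1, 11), (-1, 19), (-1, 15), (-1, 15), (-1, 3), (-1, 19), (-1, 15), (-1, 15), (1, 30), (1, 29), (-1, 29), (-1, 30), (-1, 19), (-1, 19), (-1, 15), (-1, 15), (-1, 5), (1, 19), (1, 20), (1, 20), (1, 5)]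

/-- An equation. -/
def eq3_88 : CfsgLib.Schur.Tails.Form := [(1, 16), (1, 17), (1, 18), (1, 31), (1, 27), (-1, 27), (-1, 31), (-1, 16), (-1, 16), (-1, 18), (-1, 18), (-1, 18), (-1, 18), (-1, 19), (-1, 19), (-1, 20), (-1, 20)]

/-- An equation. -/
def eq3_89 : CfsgLib.Schur.Tails.Form := [(1, 16), (1, 17), (1, 18), (1, 20), (1, 5), (-1, 5), (1, 31), (1, 28), (-1, 28), (-1, 31), (-1, 17), (-1, 17), (-1, 18), (-1, 18), (-1, 18), (-1, 18), (-1, 19), (-1, 19), (-1, 19), (-1, 19), (-1, 20), (-1, 20), (-1, 5), (1, 5)]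

/-- An equation. -/
def eq3_90 : CfsgLib.Schur.Tails.Form := [(1, 16), (1, 16), (1, 18), (1, 31), (1, 29), (-1, 29), (-1, 31), (-1, 19), (-1, 19), (-1, 5), (1, 5)]

/-- An equation. -/
def eq3_91 : CfsgLib.Schur.Tails.Form := [(1, 16), (1, 17), (1, 18), (1, 19), (1, 19), (1, 31), (1, 30), (-1, 30), (-1, 31), (-1, 19), (-1, 19), (-1, 20), (-1, 20), (-1, 20), (-1, 20), (-1, 5), (1, 5)]

/-- A combination. -/
def tgt3_0 : ℕ × ℤ × List (ℤ × ℕ) := (6, 0, [])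

/-- A combination. -/
def tgt3_1 : ℕ × ℤ × List (ℤ × ℕ) := (7, 0, [])

/-- A combination. -/
def tgt3_2 : ℕ × ℤ × List (ℤ × ℕ) := (8, 0, [(14, 0), (28, 3), (-28, 4), (-112, 9), (-112, 11), (-28, 87)])

/-- A combination. -/
def tgt3_3 : ℕ × ℤ × List (ℤ × ℕ) := (9, 28, [])

/-- A combination. -/
def tgt3_4 : ℕ × ℤ × List (ℤ × ℕ) := (10, 0, [])

/-- A combination. -/
def tgt3_5 : ℕ × ℤ × List (ℤ × ℕ) := (11, 0, [(-4, 9), (4, 67), (8, 70)])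

/-- A combination. -/
def tgt3_6 : ℕ × ℤ × List (ℤ × ℕ) := (12, 0, [])

/-- A combination. -/
def tgt3_7 : ℕ × ℤ × List (ℤ × ℕ) := (13, 56, [(-28, 0), (-28, 3), (56, 4), (-4, 9), (4, 67), (8, 70)])

/-- A combination. -/
def tgt3_8 : ℕ × ℤ × List (ℤ × ℕ) := (14, 0, [(-16, 9), (16, 67), (4, 70)])

/-- A combination. -/
def tgt3_9 : ℕ × ℤ × List (ℤ × ℕ) := (15, 0, [(28, 9)])

/-- A combination. -/
def tgt3_10 : ℕ × ℤ × List (ℤ × ℕ) := (16, 0, [(14, 0)])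

/-- A combination. -/
def tgt3_11 : ℕ × ℤ × List (ℤ × ℕ) := (17, 0, [(28, 21)])

/-- A combination. -/
def tgt3_12 : ℕ × ℤ × List (ℤ × ℕ) := (18, 0, [(-14, 0), (14, 7), (14, 8), (-24, 9), (28, 11), (14, 17), (24, 67), (6, 70)])

/-- A combination. -/
def tgt3_13 : ℕ × ℤ × List (ℤ × ℕ) := (19, 0, [(14, 0), (-28, 4)])

/-- A combination. -/
def tgt3_14 : ℕ × ℤ × List (ℤ × ℕ) := (20, 0, [(-28, 11)])

/-- A combination. -/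
def tgt3_15 : ℕ × ℤ × List (ℤ × ℕ) := (3, 0, [(21, 0), (-21, 3), (-126, 4), (42, 7), (14, 8), (237, 9), (336, 11), (21, 17), (21, 32), (-28, 59), (42, 63), (-42, 64), (57, 67), (30, 70), (42, 87)])

/-- A combination. -/
def tgt3_16 : ℕ × ℤ × List (ℤ × ℕ) := (4, 0, [(-28, 8), (48, 9), (-48, 67), (-12, 70)])

/-- A combination. -/
def tgt3_17 : ℕ × ℤ × List (ℤ × ℕ) := (5, 0, [(-21, 3), (42, 4), (-21, 7), (-21, 8), (45, 9), (-21, 11), (-35, 17), (-42, 21), (7, 32), (14, 61), (-45, 67), (21, 68), (-27, 70)])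

/-- The certificate. -/
def cert3 : CfsgLib.Schur.Tails.Cert :=
  { r := 6, a := 3, p := 3, fuel := 167, width := 6,
    rules := [([0, 0, 0], [5, 5]), ([1, 1, 1], [5]), ([2, 2, 2], []), ([3, 3, 3], []), ([4, 4, 4], []), ([5, 5, 5], []), ([1, 0], [0, 1, 3]), ([2, 0], [0, 2, 4]), ([2, 1], [1, 2, 3, 3, 4]), ([3, 0], [0, 3]), ([3, 1], [1, 3, 5]), ([3, 2], [2, 3]), ([4, 0], [0, 4, 5, 5]), ([4, 1], [1, 4, 5, 5]), ([4, 2], [2, 4]), ([4, 3], [3, 4]), ([5, 0], [0, 5]), ([5, 1], [1, 5]), ([5, 2], [2, 5]), ([5, 3], [3, 5]), ([5, 4], [4, 5])],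
    ix := [[0, 0, 0, 0, 0, 0], [6, 1, 0, 0, 0, 0], [7, 8, 2, 0, 0, 0], [9, 10, 11, 3, 0, 0], [12, 13, 14, 15, 4, 0], [16, 17, 18, 19, 20, 5]],
    ovl := [([0], 0, []), ([1], 0, []), ([1, 1], 6, []), ([2], 6, []), ([3], 6, []), ([4], 6, []), ([5], 6, []), ([2], 0, []), ([2, 2], 7, []), ([3], 7, []), ([4], 7, []), ([5], 7, []), ([3], 0, []), ([3, 3], 9, []), ([4], 9, []), ([5], 9, []), ([4], 0, []), ([4, 4], 12, []), ([5], 12, []), ([5], 0, []), ([5, 5], 16, []), ([1], 1, []), ([2], 1, []), ([2, 2], 8, []), ([3], 8, []), ([4], 8, []), ([5], 8, []), ([3], 1, []), ([3, 3], 10, []), ([4], 10, []), ([5], 10, []), ([4], 1, []), ([4, 4], 13, []), ([5], 13, []), ([5], 1, []), ([5, 5], 17, []), ([2], 2, []), ([3], 2, []), ([3, 3], 11, []), ([4], 11, []), ([5], 11, []), ([4], 2, []), ([4, 4], 14, []), ([5], 14, []), ([5],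 2, []), ([5, 5], 18, []), ([3], 3, []), ([4], 3, []), ([4, 4], 15, []), ([5], 15, []), ([5], 3, []), ([5, 5], 19, []), ([4], 4, []), ([5], 4, []), ([5, 5], 20, []), ([5], 5, [])],
    fus := [⟨[[0], [1], [2], [3], [4], [5]], [[0, 1, 1, 2, 2, 3, 3, 5, 5], [0, 0, 1, 1, 2, 3, 4, 5], [2, 2, 3], [4], [3, 3], [5, 5]], [([0, 0, 0], [5, 5]), ([1, 1, 1], [5]), ([2, 2, 2], []), ([3, 3, 3], []), ([4, 4, 4], []), ([5, 5, 5], []), ([1, 0], [0, 1, 3]), ([2, 0], [0, 2, 4]), ([2, 1], [1, 2, 3, 3, 4]), ([3, 0], [0, 3]), ([3, 1], [1, 3, 5]), ([3, 2], [2, 3]), ([4, 0], [0, 4, 5, 5]), ([4, 1], [1, 4, 5, 5]), ([4, 2], [2, 4]), ([4, 3], [3, 4]), ([5, 0], [0, 5]), ([5, 1], [1, 5]), ([5, 2], [2, 5]), ([5, 3], [3, 5]), ([5, 4], [4, 5])]⟩, ⟨[[0, 2, 2, 3, 4], [1, 2, 2, 3, 3, 4, 5], [3, 5], [3, 4, 4, 5, 5], [5, 5]], [[0, 1, 2, 5], [0, 1, 2,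 4, 5, 5], [0, 0, 2], [0, 1, 2, 3, 3], [5]], [([0, 0, 0], []), ([1, 1, 1], []), ([2, 2, 2], []), ([3, 3, 3], []), ([4, 4, 4], []), ([1, 0], [0, 1, 4]), ([2, 0], [0, 2]), ([2, 1], [1, 2, 4, 4]), ([3, 0], [0, 3, 4, 4]), ([3, 1], [1, 3, 4]), ([3, 2], [2, 3]), ([4, 0], [0, 4]), ([4, 1], [1, 4]), ([4, 2], [2, 4]), ([4, 3], [3, 4])]⟩],
    eqs := [eq3_0, eq3_1, eq3_2, eq3_3, eq3_4, eq3_5, eq3_6, eq3_7, eq3_8, eq3_9, eq3_10, eq3_11, eq3_12, eq3_13, eq3_14, eq3_15, eq3_16, eq3_17, eq3_18, eq3_19, eq3_20, eq3_21, eq3_22, eq3_23, eq3_24, eq3_25, eq3_26, eq3_27, eq3_28, eq3_29, eq3_30, eq3_31, eq3_32, eq3_33, eq3_34, eq3_35, eq3_36, eq3_37, eq3_38, eq3_39, eq3_40, eq3_41, eq3_42, eq3_43, eq3_44, eq3_45, eq3_46, eq3_47, eq3_48, eq3_49, eq3_50, eq3_51, eq3_52, eq3_53, eq3_54, eq3_55, eq3_56, eq3_57, eq3_58, eq3_59, eq3_60, eq3_61,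 eq3_62, eq3_63, eq3_64, eq3_65, eq3_66, eq3_67, eq3_68, eq3_69, eq3_70, eq3_71, eq3_72, eq3_73, eq3_74, eq3_75, eq3_76, eq3_77, eq3_78, eq3_79, eq3_80, eq3_81, eq3_82, eq3_83, eq3_84, eq3_85, eq3_86, eq3_87, eq3_88, eq3_89, eq3_90, eq3_91],
    lam := [[], [], [], [(-1, 6)], [(-1, 7)], [(-1, 10)]],
    gen := [(1, 9), (-1, 6), (1, 6)], b := 3, m := 28,
    genC := [(42, 0), (42, 3), (-84, 4), (6, 9), (14, 17), (-14, 32), (-6, 67), (-12, 70)],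
    targets := [tgt3_0, tgt3_1, tgt3_2, tgt3_3, tgt3_4, tgt3_5, tgt3_6, tgt3_7, tgt3_8, tgt3_9, tgt3_10, tgt3_11, tgt3_12, tgt3_13, tgt3_14, tgt3_15, tgt3_16, tgt3_17] }

/-- The second surviving class. -/
def second3 : CfsgLib.Schur.Tails.Second :=
  { gen := [(1, 12), (-1, 7), (-1, 10), (-1, 10), (1, 7)], b := 3, genC := [(42, 3), (-84, 4), (42, 7), (42, 8), (-90, 9), (126, 11), (42, 17), (84, 21), (-14, 32), (-28, 61), (90, 67), (-42, 68), (54, 70)], coef := [0, 0, 0, 0, 0, 0, 28, 28, 0, 0, 0, 0, 0, 0, 0, 0, 0, 0] }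

end CfsgLib.Schur.PSUFourThree
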