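import Cfsg.Agent.Lib.Schur.PSUFourThree.Data
import Cfsg.Agent.Lib.Schur.PSUFourThree.Data3
import Cfsg.Agent.Lib.Schur.TailsSLP
import Cfsg.Agent.Lib.Schur.TailsBoundTwo

/-!
Kernel checks of the data for the 3-part of the multiplier of `PSU₄(3)`.
-/

set_option autoImplicit false
set_option maxRecDepth 100000
set_option maxHeartbeats 0
set_option Elab.async false

namespace CfsgLib.Schur.PSUFourThree

open CfsgLib.Sporadic.OutCert

theorem slp3_ok : Tails.slpK 7 112 2 slpTab3 slpW3 = true ∧
    slpTab3.take 2 = baseK := by decide +kernel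

theorem pick3_ok : Tails.pickK 7 112 slpTab3 ids3 kk3 = true ∧
    Tails.pickK 7 112 slpTab3 gids3 gk3 = true := by decide +kernel

theorem cert3_eqs : cert3.eqsOK = true := by decide +kernel

theorem cert3_comb : second3.combOK cert3 = true := by decide +kernel

theorem cert3_shape : cert3.shapeOK = true ∧ cert3.p = 3 ∧ ¬ 3 ∣ cert3.m ∧ cert3.b = 3 ∧ second3.b = 3 ∧
    ¬ 3 ^ (cert3.r + 1) ∣ 3265920 := by decide +kernel

theorem rels3_ok : Tails.relK 7 112 kk3 cert3 = true ∧ Tails.fusK 7 112 kk3 gk3 cert3 = true := by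
  decide +kernel

theorem all3_ok : Tails.wordsOK 7 112 kk3 pts3 words3 0 cert3.r = true ∧
    words3.length = 3 ^ cert3.r := by decide +kernel

theorem inner3_ok : Tails.wordsOK 7 112 kk3 pts3 inner3 cert3.a cert3.r = true ∧
    inner3.length = 3 ^ (cert3.r - cert3.a) := by decide +kernel

theorem ord_ok : Tails.pickK 7 112 slpTab3 ordIds ordK = true ∧
    ((List.range 2).all fun i => testK 7 112 [ordK.getD i 0] ([5, 7].getD i 0) &&
      !(ordK.getD i 0 == oneK 7 112) && ordK.getD i 0 == pkF 7 (lk 7 (ordK.getD i 0)) 112 0) = true ∧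
    ordK.length = 2 := by decide +kernel

end CfsgLib.Schur.PSUFourThree
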