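import Cfsg.Agent.Lib.Schur.PSUFourThree.Check
import Cfsg.Agent.Lib.Schur.PSUFourThree.Check2
import Cfsg.Agent.Lib.Schur.PSUFourThree.Check3
import Cfsg.Agent.Lib.KnownA.MinIndexU4.Three
import Cfsg.Agent.Lib.Classical.HermMatrixSimple
import Cfsg.Agent.Lib.Classical.AschPrime.UnitaryGroup

/-!
`PSU₄(3)` as permutations of the 280 isotropic points and of the 112 isotropic lines.
-/

set_option autoImplicit false
set_option maxRecDepth 20000

namespace CfsgLib.Schur.PSUFourThree

open CfsgLib.Sporadic.OutCert CfsgLib.Chevalley.G2Two Matrix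

attribute [local irreducible] vec entF lk baseK pointK lineCert MonoCover.Cert.shapeK
  MonoCover.Cert.memK MonoCover.Cert.goodK MonoCover.Cert.imN

/-- The special unitary group. -/
abbrev SU4 : Type := ↥(Cfsg.SU 4 F9 3)

/-- The group. -/
abbrev G : Type := Cfsg.PSU 4 F9 3

theorem card_field : Fintype.card F9 = 3 ^ 2 := F9.card_F9

theorem pow_three (x : F9) : x ^ 3 = x * x * x := by rw [pow_succ, pow_succ, pow_one]

/-- The image vector of a vector. -/
def app (g : SU4) (v : Fin 4 → F9) : Fin 4 → F9 := (g.1 : Matrix (Fin 4) (Fin 4) F9) *ᵥ v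

theorem app_mul (g h : SU4) (v : Fin 4 → F9) : app (g * h) v = app g (app h v) := by
  unfold app
  exact (mulVec_mulVec _ _ _).symm

theorem app_one (v : Fin 4 → F9) : app 1 v = v := by
  unfold app
  exact one_mulVec v

theorem app_smul (g : SU4) (l : F9) (v : Fin 4 → F9) : app g (l • v) = l • app g v := mulVec_smul _ _ _

theorem herm_self (w : Fin 4 → F9) : Cfsg.hermForm 4 F9 3 w w = nrm (w 0) (w 1) (w 2) (w 3) := by
  simp only [Cfsg.hermForm, Fin.sum_univ_four, nrm, pow_three]

theorem exists_point {w : Fin 4 → F9} (hw : w ≠ 0) (hi : Cfsg.hermForm 4 F9 3 w w = 0) :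
    ∃ i : Fin 280, ∃ l : F9, l ≠ 0 ∧ w = l • vec i := by
  rcases iso_cover (w 0) (w 1) (w 2) (w 3) ((herm_self w).symm.trans hi) with
    ⟨h0, h1, h2, h3⟩ | ⟨hlt, l, hl, h0, h1, h2, h3⟩
  · refine absurd (funext fun k => ?_) hw
    fin_cases k
    exacts [h0, h1, h2, h3]
  · refine ⟨⟨_, hlt⟩, l, hl, funext fun k => ?_⟩
    fin_cases k
    exacts [h0.symm, h1.symm, h2.symm, h3.symm]

theorem point_unique {i j : Fin 280} {l m : F9} (hl : l ≠ 0) (hm : m ≠ 0)
    (h : l • vec i = m • vec j) : i = j := by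
  have hk : ∀ k, l * vec i k = m * vec j k := fun k => congrFun h k
  have e := vec_place i l hl
  rw [hk, hk, hk, hk, vec_place j m hm] at e
  exact Fin.ext e.symm

theorem exists_image (g : SU4) (i : Fin 280) :
    ∃ j : Fin 280, ∃ l : F9, l ≠ 0 ∧ app g (vec i) = l • vec j := by
  obtain ⟨hiso, k, hk⟩ := vec_iso i
  refine exists_point (fun h => hk ?_) ?_
  · have e := congrArg (app g⁻¹) h
    rw [← app_mul, inv_mul_cancel, app_one, show app g⁻¹ 0 = 0 from mulVec_zero _] at e
    exact congrFun e k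
  · exact (g.2 (vec i) (vec i)).trans ((herm_self _).trans hiso)

/-- The image of a point. -/
noncomputable def pi (g : SU4) (i : Fin 280) : Fin 280 := (exists_image g i).choose

theorem pi_spec (g : SU4) (i : Fin 280) : ∃ l : F9, l ≠ 0 ∧ app g (vec i) = l • vec (pi g i) :=
  (exists_image g i).choose_spec

theorem pi_eq {g : SU4} {i j : Fin 280} {l : F9} (hl : l ≠ 0) (h : app g (vec i) = l • vec j) : pi g i = j := by
  obtain ⟨m, hm, e⟩ := pi_spec g i
  exact point_unique hm hl (e.symm.trans h)

theorem pi_mul (g h : SU4) (i : Fin 280) : pi (g * h) i = pi g (pi h i) := by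
  obtain ⟨m, hm, e⟩ := pi_spec h i
  obtain ⟨l, hl, e'⟩ := pi_spec g (pi h i)
  refine pi_eq (mul_ne_zero hm hl) ?_
  rw [app_mul, e, app_smul, e', smul_smul]

theorem pi_one (i : Fin 280) : pi 1 i = i := pi_eq one_ne_zero (by rw [app_one, one_smul])

/-- The action on the points. -/
noncomputable def psiSU : SU4 →* Equiv.Perm (Fin 280) where
  toFun g :=
    { toFun := pi g
      invFun := pi g⁻¹
      left_inv := fun i => by rw [← pi_mul, inv_mul_cancel, pi_one]
      right_inv := fun i => by rw [← pi_mul, mul_inv_cancel, pi_one] }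
  map_one' := Equiv.ext pi_one
  map_mul' g h := Equiv.ext (pi_mul g h)

theorem eigen_of_ker {g : SU4} (hg : g ∈ psiSU.ker) {w : Fin 4 → F9} (hw : w ≠ 0)
    (hi : Cfsg.hermForm 4 F9 3 w w = 0) : ∃ a : F9, app g w = a • w := by
  obtain ⟨i, l, -, rfl⟩ := exists_point hw hi
  obtain ⟨m, -, e⟩ := pi_spec g i
  rw [show pi g i = i from Equiv.congr_fun (MonoidHom.mem_ker.1 hg) i] at e
  exact ⟨m, by rw [app_smul, e, smul_comm]⟩

theorem fourth_roots : ∃ w v : F9, w ≠ 0 ∧ v ≠ 0 ∧ w + w ≠ 0 ∧ w * w + v * v = 0 ∧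
    (∀ x : F9, x = w ∨ x = -w ∨ x = v → x ≠ 0 ∧ 1 + x * (x * x * x) = 0) := by decide +kernel

theorem scalar_of_ker {g : SU4} (hg : g ∈ psiSU.ker) :
    ∃ c : F9, (g.1 : Matrix (Fin 4) (Fin 4) F9) = c • 1 := by
  obtain ⟨w, v, hw, hv, hw2, hwv, hall⟩ := fourth_roots
  set M := (g.1 : Matrix (Fin 4) (Fin 4) F9) with hM
  have key : ∀ a b : Fin 4, a ≠ b → ∀ x : F9, (x = w ∨ x = -w ∨ x = v) →
      M b a + x * M b b = x * (M a a + x * M a b) ∧
        ∀ c, c ≠ a → c ≠ b → M c a + x * M c b = 0 := by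
    intro a b hab x hx
    obtain ⟨hx0, hx4⟩ := hall x hx
    have hne : (Pi.single a 1 + Pi.single b x : Fin 4 → F9) ≠ 0 := fun h => by
      simpa [hab] using congrFun h a
    obtain ⟨l, hl⟩ := eigen_of_ker hg hne (by
      rw [Cfsg.hermForm]
      refine (Finset.sum_eq_add a b hab (fun c _ hc => ?_) (by simp) (by simp)).trans ?_
      · simp [hc.1, hc.2]
      · simp only [Pi.add_apply, Pi.single_eq_same, Pi.single_eq_of_ne hab, Pi.single_eq_of_ne hab.symm,
          add_zero, zero_add, one_pow, mul_one, pow_three]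
        exact hx4)
    have hc : ∀ c, M c a + x * M c b = l * ((Pi.single a 1 + Pi.single b x : Fin 4 → F9) c) := fun c => by
      have := congrFun hl c
      simpa [app, mulVec_add, mulVec_single_one, mulVec_single, mul_comm] using this
    have ha := hc a
    have hb := hc b
    simp only [Pi.add_apply, Pi.single_eq_same, Pi.single_eq_of_ne hab, Pi.single_eq_of_ne hab.symm,
      add_zero, zero_add, mul_one] at ha hb
    refine ⟨by rw [hb, ha, mul_comm], fun c hca hcb => ?_⟩
    rw [hc c]
    simp [hca, hcb]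
  have pair : ∀ a b : Fin 4, a ≠ b → M b a = 0 ∧ M b b = M a a := by
    intro a b hab
    have e1 := (key a b hab w (Or.inl rfl)).1
    have e2 := (key a b hab (-w) (Or.inr (Or.inl rfl))).1
    have hd : M b b = M a a := by
      have : (w + w) * (M b b - M a a) = 0 := by linear_combination e1 - e2
      exact sub_eq_zero.1 ((mul_eq_zero.1 this).resolve_left hw2)
    have e3 := (key a b hab v (Or.inr (Or.inr rfl))).1
    rw [hd] at e1 e3
    refine ⟨?_, hd⟩
    have : (M b a + M b a) = 0 := by linear_combination e1 + e3 + M a b * hwv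
    have h2 : ∀ x : F9, x + x = 0 → x = 0 := by decide +kernel
    exact h2 _ this
  refine ⟨M 0 0, Matrix.ext fun i j => ?_⟩
  rcases eq_or_ne i j with rfl | hij
  · rcases eq_or_ne (0 : Fin 4) i with rfl | h0
    · simp
    · simp [(pair 0 i h0).2]
  · simp [hij, (pair j i hij.symm).1]

theorem center_scalar {F : Type*} [Field F] [Fintype F] (hF : Fintype.card F = 3 ^ 2) {g : Cfsg.SU 4 F 3}
    (hg : g ∈ Subgroup.center (Cfsg.SU 4 F 3)) : ∃ c : F, (g.1 : Matrix (Fin 4) (Fin 4) F) = c • 1 :=
  CfsgLib.Classical.scalar_of_commute hF (by norm_num) _ fun x hx hx1 =>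
    congrArg (fun B : Cfsg.SU 4 F 3 => (B.1 : Matrix (Fin 4) (Fin 4) F))
      (Subgroup.mem_center_iff.1 hg ⟨⟨(x : Matrix (Fin 4) (Fin 4) F), congrArg Units.val hx1⟩, hx⟩).symm

theorem ker_psiSU : psiSU.ker = Subgroup.center SU4 := by
  apply le_antisymm
  · intro g hg
    obtain ⟨c, hc⟩ := scalar_of_ker hg
    refine Subgroup.mem_center_iff.2 fun h => Subtype.ext (Subtype.ext ?_)
    show (h.1 : Matrix (Fin 4) (Fin 4) F9) * (g.1 : Matrix (Fin 4) (Fin 4) F9) = g.1 * h.1
    rw [hc]
    simp
  · intro g hg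
    obtain ⟨c, hc⟩ := center_scalar card_field hg
    have hc0 : c ≠ 0 := fun h => by
      have hd := g.1.2
      rw [hc, h] at hd
      simp at hd
    refine MonoidHom.mem_ker.2 (Equiv.ext fun i => pi_eq hc0 ?_)
    show app g (vec i) = _
    rw [app, hc, smul_mulVec, one_mulVec]
    rfl

/-- The action of the projective group on the points. -/
noncomputable def psi : G →* Equiv.Perm (Fin 280) := QuotientGroup.lift _ psiSU ker_psiSU.ge

theorem psi_mk (g : SU4) : psi (QuotientGroup.mk g) = psiSU g := rfl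

theorem card_G : Nat.card G = 3265920 := by
  have h := Subgroup.card_eq_card_quotient_mul_card_subgroup (Subgroup.center SU4)
  rw [(CfsgLib.KnownA.MinIndexU4.card_su card_field).2,
    CfsgLib.Classical.card_center_SU card_field (by norm_num)] at h
  norm_num at h
  change 13063680 = Nat.card G * 4 at h
  omega

theorem finite_G : Finite G := Nat.finite_of_card_ne_zero (by rw [card_G]; norm_num)

theorem commutator_G : commutator G = ⊤ := by
  obtain ⟨σ, hσ, hc⟩ := CfsgLib.Classical.exists_frob card_field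
  have hB := CfsgLib.Classical.stdHerm_isHermitian hc 4
  have hp := hB.sIsom_perfect (CfsgLib.Classical.stdHerm_sepRight 4)
    (Or.inr (by rw [Module.finrank_fintype_fun_eq_card, Fintype.card_fin]))
  have key : ∀ {A B : Type} [Group A] [Group B] (f : A →* B), Function.Surjective f →
      commutator A = ⊤ → commutator B = ⊤ := fun f hf h => by
    rw [_root_.commutator_def] at h ⊢
    have := congrArg (Subgroup.map f) h
    rwa [Subgroup.map_commutator, ← MonoidHom.range_eq_map, MonoidHom.range_eq_top.2 hf] at this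
  refine key (QuotientGroup.mk' _) (QuotientGroup.mk'_surjective _) ?_
  exact key (CfsgLib.Classical.suEquiv (n := 4) hσ).symm.toMonoidHom
    (CfsgLib.Classical.suEquiv (n := 4) hσ).symm.surjective hp

theorem unitary_mem (m : ℕ) (hm : m < 2) :
    (⟨Matrix.of (entF m), ent_det m hm⟩ : SpecialLinearGroup (Fin 4) F9) ∈ Cfsg.SU 4 F9 3 := by
  intro u v
  have hconj : ∀ x : F9, x ^ 3 = F9.conj x := fun x => by rw [pow_three]; exact F9.conj_eq x
  show Cfsg.hermForm 4 F9 3 (Matrix.of (entF m) *ᵥ u) (Matrix.of (entF m) *ᵥ v) = Cfsg.hermForm 4 F9 3 u v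
  have hMM : (Matrix.of (entF m))ᵀ * (Matrix.of (entF m)).map F9.conj = 1 := by
    refine Matrix.ext fun i j => ?_
    rw [Matrix.mul_apply, Fin.sum_univ_four, Matrix.one_apply, ← ent_unitary m hm i j]
    simp
  have e : ∀ x y : Fin 4 → F9, Cfsg.hermForm 4 F9 3 x y = x ⬝ᵥ (F9.conj ∘ y) := fun x y => by
    simp only [Cfsg.hermForm, hconj, dotProduct, Function.comp_apply]
  rw [e, e]
  have hv : F9.conj ∘ (Matrix.of (entF m) *ᵥ v) = (Matrix.of (entF m)).map F9.conj *ᵥ (F9.conj ∘ v) :=
    funext fun i => RingHom.map_mulVec F9.conj (Matrix.of (entF m)) v i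
  rw [hv, dotProduct_mulVec, ← vecMul_transpose (Matrix.of (entF m)) u, vecMul_vecMul, hMM, vecMul_one]

/-- The generators in the special unitary group. -/
noncomputable def genSU (m : Fin 2) : SU4 := ⟨_, unitary_mem m m.2⟩

/-- The generators. -/
noncomputable def gen (m : Fin 2) : G := QuotientGroup.mk (genSU m)

theorem app_genSU (m : Fin 2) (v : Fin 4 → F9) : app (genSU m) v = mv (entF m) v := funext fun i => by
  show (Matrix.of (entF m) *ᵥ v) i = _
  simp [Matrix.mulVec, dotProduct, Fin.sum_univ_four, mv]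

theorem point_rep (m : Fin 2) (i : Fin 280) : lk 9 (pointK.getD m 0) i = (psi (gen m) i : ℕ) := by
  obtain ⟨hlt, l, hl, h⟩ := ent_moves m m.2 i
  show _ = (pi (genSU m) i : ℕ)
  rw [pi_eq (j := ⟨_, hlt⟩) hl]
  rw [app_genSU]
  exact funext h

instance : NeZero lineCert.q := ⟨by decide +kernel⟩

theorem line_d : lineCert.d = 280 ∧ lineCert.N = 112 ∧ lineCert.wd = 9 ∧ lineCert.base = pointK := by
  unfold lineCert
  exact ⟨rfl, rfl, rfl, rfl⟩

/-- Elements of the group with their permutations of the lines. -/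
def LineRel (g : G) (r : Equiv.Perm (Fin 112)) : Prop :=
  ∀ (i : Fin 112) (x : Fin 280), lineCert.bitN (r i) (psi g x) = lineCert.bitN i x

theorem lineRel_unique {g : G} {r s : Equiv.Perm (Fin 112)} (h : LineRel g r) (h' : LineRel g s) : r = s := by
  obtain ⟨hd, hN, -, -⟩ := line_d
  refine Equiv.ext fun i => ?_
  have := lineCert.mem_injective line_shape (a₁ := Fin.cast hN.symm (r i)) (a₂ := Fin.cast hN.symm (s i))
    (funext fun y => by
      obtain ⟨x, hx⟩ := (psi g).surjective (Fin.cast hd y)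
      have e := (h i x).trans (h' i x).symm
      rw [hx] at e
      exact e)
  exact Fin.ext (congrArg Fin.val this :)

theorem lineRel_mul {g h : G} {r s : Equiv.Perm (Fin 112)} (hg : LineRel g r) (hh : LineRel h s) :
    LineRel (g * h) (r * s) := fun i x => by
  rw [map_mul, Equiv.Perm.mul_apply, Equiv.Perm.mul_apply, hg, hh]

theorem lineRel_one : LineRel 1 1 := fun i x => by rw [map_one]; rfl

theorem lineRel_gen (m : Fin 2) : ∃ r : Equiv.Perm (Fin 112),
    LineRel (gen m) r ∧ ∀ i : Fin 112, lk 7 (baseK.getD m 0) i = (r i : ℕ) := by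
  obtain ⟨hd, hN, hwd, hb⟩ := line_d
  obtain ⟨m0, m1, g0, g1⟩ := line_mem
  obtain ⟨r, hr, r', c, he, hgood⟩ := lineCert.exists_lift (m := m) line_shape (by decide +kernel)
    (by fin_cases m <;> assumption) (by fin_cases m <;> assumption)
    (p := (finCongr hd.symm).permCongr (psi (gen m)))
    (fun x => by rw [hwd, hb]; exact point_rep m (Fin.cast hd x))
  have hrr : r = r' := Equiv.ext fun i => congrArg Prod.fst (Equiv.congr_fun he (i, 0))
  refine ⟨(finCongr hN).permCongr r, fun i x => ?_, fun i => ?_⟩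
  · have := hgood.1 (Fin.cast hN.symm i) (Fin.cast hd.symm x)
    rw [← hrr] at this
    exact this
  · rw [← Nat.eq_of_beq_eq_true (allF_iff.1 (line_im m m.2) i i.2)]
    exact hr (Fin.cast hN.symm i)

/-- The group generated by the two generators. -/
noncomputable abbrev K : Subgroup G := Subgroup.closure (Set.range gen)

theorem exists_lineRel (g : K) : ∃ r, LineRel g r := by
  haveI := finite_G
  obtain ⟨g, hg⟩ := g
  show ∃ r, LineRel g r
  rw [K, ← Subgroup.mem_toSubmonoid, Subgroup.closure_toSubmonoid_of_finite] at hg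
  refine Submonoid.closure_induction (fun x ⟨m, hm⟩ => ?_) ⟨1, lineRel_one⟩
    (fun x y _ _ ⟨r, hr⟩ ⟨s, hs⟩ => ⟨r * s, lineRel_mul hr hs⟩) hg
  exact hm ▸ ⟨_, (lineRel_gen m).choose_spec.1⟩

/-- The permutations of the lines, on the generated group. -/
noncomputable def phiK : K →* Equiv.Perm (Fin 112) :=
  MonoidHom.mk' (fun g => (exists_lineRel g).choose) fun g h =>
    lineRel_unique (exists_lineRel (g * h)).choose_spec
      (lineRel_mul (exists_lineRel g).choose_spec (exists_lineRel h).choose_spec)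

theorem phiK_gen (m : Fin 2) (i : Fin 112) :
    lk 7 (baseK.getD m 0) i = (phiK ⟨gen m, Subgroup.subset_closure ⟨m, rfl⟩⟩ i : ℕ) := by
  obtain ⟨r, hr, hi⟩ := lineRel_gen m
  rw [hi, lineRel_unique hr (exists_lineRel ⟨gen m, Subgroup.subset_closure ⟨m, rfl⟩⟩).choose_spec]
  rfl

theorem wordImg_phiK : ∀ (w : List (Fin 2)) (i : Fin 112), wordImg (w.map Fin.val) i =
    (phiK (w.map fun m => (⟨gen m, Subgroup.subset_closure ⟨m, rfl⟩⟩ : K)).prod i : ℕ)
  | [], i => by simp [wordImg]
  | m :: w, i => by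
    show lk 7 (baseK.getD m 0) (wordImg (w.map Fin.val) i) = _
    rw [wordImg_phiK w i, phiK_gen m, List.map_cons, List.prod_cons, map_mul, Equiv.Perm.mul_apply]

/-- A word over the two letters. -/
def letters (w : List ℕ) : List (Fin 2) := w.map fun m => Fin.ofNat 2 m

theorem letters_val {w : List ℕ} (h : (w.all fun m => Nat.blt m 2) = true) :
    (letters w).map Fin.val = w := by
  simp only [List.all_eq_true, Nat.blt_eq] at h
  rw [letters, List.map_map]
  conv_rhs => rw [← List.map_id w]
  exact List.map_congr_left fun m hm => Nat.mod_eq_of_lt (h m hm)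

theorem hw7 : 112 ≤ 2 ^ 7 := by norm_num

theorem range_base {tab : List ℕ} (h : tab.take 2 = baseK) :
    ∀ i < 2, ∃ q : phiK.range, Rep 7 112 (tab.getD i (oneK 7 112)) (phiK.range.subtype q) := by
  intro i hi
  refine ⟨⟨_, ⟨gen ⟨i, hi⟩, Subgroup.subset_closure ⟨_, rfl⟩⟩, rfl⟩, ?_⟩
  have hl : i < baseK.length := by
    have e : baseK.length = 2 := by decide +kernel
    omega
  have e : tab.getD i (oneK 7 112) = (tab.take 2).getD i (oneK 7 112) := by
    simp [List.getD_eq_getElem?_getD, hi]
  rw [e, h, List.getD_eq_getElem _ _ hl, ← List.getD_eq_getElem _ 0 hl]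
  exact fun x => phiK_gen ⟨i, hi⟩ x

theorem pow_dvd_range {D : Tails.Cert} {tab kk pts ids : List ℕ} {ws ww : List (List ℕ)}
    (hslp : Tails.slpK 7 112 2 tab ww = true ∧ tab.take 2 = baseK)
    (hpick : Tails.pickK 7 112 tab ids kk = true) (hsh : D.shapeOK = true)
    (hrel : Tails.relK 7 112 kk D = true) (hall : Tails.wordsOK 7 112 kk pts ws 0 D.r = true)
    {p : ℕ} (hp : 0 < p) (hDp : D.p = p) (hlen : ws.length = p ^ D.r) :
    p ^ D.r ∣ Nat.card phiK.range := by
  choose y hy using Tails.exists_pick phiK.range.subtype hw7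
    (Tails.exists_slp phiK.range.subtype hw7 (range_base hslp.2) hslp.1) hpick
  have hr := Tails.rel_of_check phiK.range.subtype Subtype.val_injective hw7 hy hrel
  have hge := hlen ▸ Tails.card_tailGen_ge phiK.range.subtype hy hall
  simp only [Tails.Cert.shapeOK, Bool.and_eq_true, decide_eq_true_eq, List.all_eq_true,
    List.mem_range] at hsh
  obtain ⟨-, hpc⟩ := hsh
  have hval : ∀ k < D.rules.length, Tails.valW y (D.rules.getD k ([], [])).1 =
      Tails.valW y (D.rules.getD k ([], [])).2 := fun k hk => hr _ (by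
    rw [List.getD_eq_getElem _ _ hk]; exact List.getElem_mem hk)
  have hle : Nat.card (Tails.tailGen y D.r 0) ≤ p ^ D.r := by
    refine Tails.card_tailGen_le y D.r 0 p hp (fun i _ hir => ?_) (fun i j _ hij hjr => ?_) D.r 0 le_rfl
      (Nat.zero_add _)
    · have h := (hpc i hir).1
      simp only [Tails.Cert.powOK, Bool.and_eq_true, decide_eq_true_eq, beq_iff_eq,
        Tails.lettersIn_iff] at h
      obtain ⟨⟨⟨h1, h2⟩, h3⟩, -⟩ := h
      have e := hval _ h1
      rw [h2] at e
      simp only [Tails.valW, List.map_replicate, List.prod_replicate, hDp] at e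
      rw [e]
      exact Tails.valW_mem_tailGen h3
    · have h : D.comOK i j = true := by
        have := (hpc i (by omega)).2 j hjr
        simpa [hij] using this
      simp only [Tails.Cert.comOK, Bool.and_eq_true, decide_eq_true_eq, beq_iff_eq,
        List.head?_eq_some_iff] at h
      obtain ⟨⟨⟨⟨h1, h2⟩, w, h3⟩, h4⟩, -⟩ := h
      rw [h3] at h4
      simp only [List.tail_cons] at h4
      have e := hval _ h1
      rw [h2, h3] at e
      simp only [Tails.valW_cons, Tails.valW_nil, mul_one] at e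
      rw [mul_assoc, e, inv_mul_cancel_left]
      refine Tails.valW_mem_tailGen ?_
      split_ifs at h4 with hja
      · simp only [Bool.and_eq_true, beq_iff_eq, Tails.lettersIn_iff, List.head?_eq_some_iff] at h4
        obtain ⟨⟨w', rfl⟩, h6⟩ := h4
        intro l hl
        rcases List.mem_cons.1 hl with rfl | hl
        · omega
        · have := h6 l hl; omega
      · rw [Tails.lettersIn_iff] at h4
        intro l hl; have := h4 l hl; omega
  exact le_antisymm hle hge ▸ Subgroup.card_subgroup_dvd_card _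

theorem card_range_phiK : 3265920 ≤ Nat.card phiK.range := by
  have h2 := pow_dvd_range slp2_ok pick2_ok.1 cert2_shape.1 rels2_ok.1 all2_ok.1 (p := 2) (by norm_num)
    cert2_shape.2.1 all2_ok.2
  have h3 := pow_dvd_range slp3_ok pick3_ok.1 cert3_shape.1 rels3_ok.1 all3_ok.1 (p := 3) (by norm_num)
    cert3_shape.2.1 all3_ok.2
  have hr : cert2.r = 7 ∧ cert3.r = 6 := by decide +kernel
  rw [hr.1] at h2
  rw [hr.2] at h3
  have hord : ∀ j < 2, ([5, 7].getD j 0).Prime → [5, 7].getD j 0 ∣ Nat.card phiK.range := by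
    intro j hj hmp
    haveI := Fact.mk hmp
    obtain ⟨h1, h2', h3'⟩ := ord_ok
    have h := List.all_eq_true.1 h2' j (List.mem_range.2 hj)
    simp only [Bool.and_eq_true, Bool.not_eq_true', beq_eq_false_iff_ne, beq_iff_eq] at h
    have hmem := Tails.exists_pick phiK.range.subtype hw7
      (Tails.exists_slp phiK.range.subtype hw7 (range_base slp3_ok.2) slp3_ok.1) h1 j
    have hdd : ordK.getD j (oneK 7 112) = ordK.getD j 0 := by
      rw [List.getD_eq_getElem _ _ (h3' ▸ hj), List.getD_eq_getElem _ _ (h3' ▸ hj)]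
    rw [hdd] at hmem
    obtain ⟨q, hq⟩ := Tails.exists_orderOf phiK.range.subtype hw7 Subtype.val_injective hmem h.1.1 h.1.2 h.2
    exact hq ▸ orderOf_dvd_natCard q
  have h5 : 5 ∣ Nat.card phiK.range := hord 0 (by norm_num) (by norm_num)
  have h7 : 7 ∣ Nat.card phiK.range := hord 1 (by norm_num) (by norm_num)
  refine Nat.le_of_dvd Nat.card_pos ?_
  exact (show (3265920 : ℕ) = 2 ^ 7 * 3 ^ 6 * 5 * 7 by norm_num) ▸
    Nat.Coprime.mul_dvd_of_dvd_of_dvd (by norm_num)
      (Nat.Coprime.mul_dvd_of_dvd_of_dvd (by norm_num)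
        (Nat.Coprime.mul_dvd_of_dvd_of_dvd (by norm_num) h2 h3) h5) h7

theorem gen_closure : Subgroup.closure (Set.range gen) = ⊤ := by
  haveI := finite_G
  refine Subgroup.eq_top_of_le_card _ ?_
  rw [card_G]
  exact card_range_phiK.trans (Nat.card_le_card_of_surjective _ phiK.rangeRestrict_surjective)

/-- The action on the lines. -/
noncomputable def phi : G →* Equiv.Perm (Fin 112) :=
  phiK.comp ((MulEquiv.subgroupCongr gen_closure).trans Subgroup.topEquiv).symm.toMonoidHom

theorem phi_injective : Function.Injective phi := by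
  haveI := finite_G
  have hs : phiK.range = phi.range := by
    let e := (MulEquiv.subgroupCongr gen_closure).trans Subgroup.topEquiv
    ext x
    constructor
    · rintro ⟨k, rfl⟩
      exact ⟨e k, congrArg phiK (e.symm_apply_apply k)⟩
    · rintro ⟨g, rfl⟩
      exact ⟨e.symm g, rfl⟩
  have hb : Function.Bijective phi.rangeRestrict :=
    (Nat.bijective_iff_surjective_and_card _).2 ⟨phi.rangeRestrict_surjective, le_antisymm
      (by rw [card_G, ← hs]; exact card_range_phiK)
      (Nat.card_le_card_of_surjective _ phi.rangeRestrict_surjective)⟩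
  exact fun a b h => hb.1 (Subtype.ext h)

theorem gen_rep (m : Fin 2) : Rep 7 112 (baseK.getD m 0) (phi (gen m)) := fun i => phiK_gen m i

theorem wordImg_phi : ∀ (w : List (Fin 2)) (i : Fin 112),
    wordImg (w.map Fin.val) i = (phi (w.map gen).prod i : ℕ)
  | [], i => by simp [wordImg]
  | m :: w, i => by
    show lk 7 (baseK.getD m 0) (wordImg (w.map Fin.val) i) = _
    rw [wordImg_phi w i, gen_rep m, List.map_cons, List.prod_cons, map_mul, Equiv.Perm.mul_apply]

theorem prod_eq_one {w : List (Fin 2)}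
    (h : allF (fun i => Nat.beq (wordImg (w.map Fin.val) i) i) 112 = true) : (w.map gen).prod = 1 :=
  phi_injective (Equiv.ext fun i => Fin.ext (by
    rw [map_one, Equiv.Perm.one_apply, ← wordImg_phi]
    exact Nat.eq_of_beq_eq_true (allF_iff.1 h i i.2)))

end CfsgLib.Schur.PSUFourThree
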