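import Cfsg.Agent.Lib.Schur.PSUFourThree.CoverData
import Cfsg.Agent.Lib.Chevalley.G2Two.F9

/-!
Kernel checks on the model of `PSU₄(3)` and on its covers.
-/

set_option autoImplicit false
set_option maxRecDepth 100000
set_option maxHeartbeats 0
set_option Elab.async false

namespace CfsgLib.Schur.PSUFourThree

open CfsgLib.Sporadic.OutCert CfsgLib.Chevalley.G2Two

/-- A coordinate of a representative vector. -/
noncomputable def coordN (i k : ℕ) : ℕ := lk 4 (lk 16 vecK i) k

/-- The representative vector of a point. -/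
noncomputable def vec (i : ℕ) (k : Fin 4) : F9 := F9.ofNat9 (coordN i k.val)

/-- The entries of a generator. -/
noncomputable def entF (m : ℕ) (i j : Fin 4) : F9 :=
  F9.ofNat9 ((matK.getD m []).getD (4 * i.val + j.val) 0)

/-- The code of a vector. -/
def vcode (a b c d : F9) : ℕ := F9.code a + 9 * (F9.code b + 9 * (F9.code c + 9 * F9.code d))

/-- The form on a vector and itself. -/
def nrm (a b c d : F9) : F9 := a * (a * a * a) + b * (b * b * b) + c * (c * c * c) + d * (d * d * d)

theorem iso_cover : ∀ a b c d : F9, nrm a b c d = 0 → (a = 0 ∧ b = 0 ∧ c = 0 ∧ d = 0) ∨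
    (lk 9 placeK (vcode a b c d) < 280 ∧ ∃ l : F9, l ≠ 0 ∧
      l * vec (lk 9 placeK (vcode a b c d)) 0 = a ∧ l * vec (lk 9 placeK (vcode a b c d)) 1 = b ∧
      l * vec (lk 9 placeK (vcode a b c d)) 2 = c ∧ l * vec (lk 9 placeK (vcode a b c d)) 3 = d) := by
  decide +kernel

theorem vec_place : ∀ i : Fin 280, ∀ l : F9, l ≠ 0 →
    lk 9 placeK (vcode (l * vec i 0) (l * vec i 1) (l * vec i 2) (l * vec i 3)) = i.val := by decide +kernel

theorem vec_iso : ∀ i : Fin 280, nrm (vec i 0) (vec i 1) (vec i 2) (vec i 3) = 0 ∧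
    ∃ k : Fin 4, vec i k ≠ 0 := by decide +kernel

/-- A matrix applied to a vector. -/
def mv (M : Fin 4 → Fin 4 → F9) (v : Fin 4 → F9) (i : Fin 4) : F9 :=
  M i 0 * v 0 + M i 1 * v 1 + M i 2 * v 2 + M i 3 * v 3

theorem ent_det : ∀ m < 2, Matrix.det (Matrix.of (entF m)) = 1 := by decide +kernel

theorem ent_unitary : ∀ m < 2, ∀ i j : Fin 4,
    entF m 0 i * F9.conj (entF m 0 j) + entF m 1 i * F9.conj (entF m 1 j) +
      entF m 2 i * F9.conj (entF m 2 j) + entF m 3 i * F9.conj (entF m 3 j) = if i = j then 1 else 0 := by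
  decide +kernel

theorem ent_moves : ∀ m < 2, ∀ i : Fin 280, lk 9 (pointK.getD m 0) i < 280 ∧
    ∃ l : F9, l ≠ 0 ∧ ∀ k, mv (entF m) (vec i) k = l * vec (lk 9 (pointK.getD m 0) i) k := by
  decide +kernel

/-- The code of the image of the vector with a given code under a generator. -/
noncomputable def stepN (m n : ℕ) : ℕ :=
  let v : Fin 4 → F9 := fun k => F9.ofNat9 (n / 9 ^ k.val % 9)
  vcode (mv (entF m) v 0) (mv (entF m) v 1) (mv (entF m) v 2) (mv (entF m) v 3)

/-- The code of the image of a vector under a word. -/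
noncomputable def vecImg (w : List ℕ) (n : ℕ) : ℕ :=
  List.rec (motive := fun _ => ℕ) n (fun m _ ih => stepN m ih) w

/-- The powers of `i`. -/
def ipow (a : ZMod 4) : F9 := [(⟨1, 0⟩ : F9), ⟨0, 1⟩, ⟨2, 0⟩, ⟨0, 2⟩].getD a.val 0

theorem ipow_facts : (∀ a b, ipow (a + b) = ipow a * ipow b) ∧ ipow 0 = 1 ∧
    (∀ a, ipow a * F9.conj (ipow a) = 1 ∧ ipow a * ipow a * ipow a * ipow a = 1) ∧
    (∀ a b, ipow a = ipow b → a = b) ∧ ∀ c : F9, c * c * c * c = 1 → ∃ a, ipow a = c := by decide +kernel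

/-- A word multiplies all four basis vectors by a power of `i`. -/
noncomputable def scalarOK (w : List ℕ) (a : ℕ) : Bool :=
  allF (fun k => Nat.beq (vecImg w (9 ^ k * F9.code 1))
    (9 ^ k * F9.code (ipow (a : ZMod 4)))) 4

/-- The image of a line under a word. -/
noncomputable def wordImg (w : List ℕ) (i : ℕ) : ℕ :=
  List.rec (motive := fun _ => ℕ) i (fun m _ ih => lk 7 (baseK.getD m 0) ih) w

theorem line_shape : lineCert.shapeK = true := by decide +kernel

theorem line_mem : lineCert.memK 0 = true ∧ lineCert.memK 1 = true ∧ lineCert.goodK 0 = true ∧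
    lineCert.goodK 1 = true := by decide +kernel

theorem line_im : ∀ m < 2, allF (fun i => Nat.beq (lineCert.imN m i) (lk 7 (baseK.getD m 0) i)) 112 = true := by
  decide +kernel

/-- All checks of a cover. -/
noncomputable def coverOK (C : MonoCover.Cert) : Bool :=
  C.shapeK && C.treeK && C.memK 0 && C.memK 1 && C.goodK 0 && C.goodK 1

theorem covA_ok : coverOK covThreeA = true := by decide +kernel

theorem covB_ok : coverOK covThreeB = true := by decide +kernel

/-- A word with its scalar and its shifts. -/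
noncomputable def wordsRel (w s : List ℕ) : Bool :=
  (w.all fun m => Nat.blt m 2) && allF (fun i => Nat.beq (wordImg w i) i) 112 &&
    scalarOK w (s.getD 0 0) && covThreeA.relK w (s.getD 1 0) && covThreeB.relK w (s.getD 2 0) &&
    Nat.blt (s.getD 1 0) 3 && Nat.blt (s.getD 2 0) 3

theorem rel_gen : wordsRel (List.replicate 7 0) [0, 0, 0] = true ∧
    wordsRel (List.replicate 5 1) [0, 0, 0] = true := by decide +kernel

theorem rel_z : ∀ j < 2, wordsRel (zW.getD j []) (zS.getD j []) = true := by decide +kernel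

theorem z_span : ∀ a : ZMod 4, ∀ b c : ZMod 3, ∃ i j : Fin 12,
    (i.val : ZMod 4) * ((zS.getD 0 []).getD 0 0 : ℕ) + (j.val : ZMod 4) * ((zS.getD 1 []).getD 0 0 : ℕ) = a ∧
    (i.val : ZMod 3) * ((zS.getD 0 []).getD 1 0 : ℕ) + (j.val : ZMod 3) * ((zS.getD 1 []).getD 1 0 : ℕ) = b ∧
    (i.val : ZMod 3) * ((zS.getD 0 []).getD 2 0 : ℕ) + (j.val : ZMod 3) * ((zS.getD 1 []).getD 2 0 : ℕ) = c := by
  decide +kernel

end CfsgLib.Schur.PSUFourThree
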