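import Cfsg.Agent.Lib.Schur.PSUFourThree.Model
import Cfsg.Agent.Lib.Schur.Basic

/-!
The cover of `PSU₄(3)` with kernel `4 × 3 × 3`: the special unitary group beside two triple covers.
-/

set_option autoImplicit false
set_option maxRecDepth 20000

namespace CfsgLib.Schur.PSUFourThree

open CfsgLib.Sporadic.OutCert CfsgLib.Schur.MonoCover CfsgLib.Chevalley.G2Two Subgroup Matrix

attribute [local irreducible] lk baseK zW zS entF stepN Cert.evalK Cert.shapeK Cert.treeK Cert.memK Cert.goodK Cert.relK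

/-- The labels of the scalar part. -/
abbrev Lab4 : Type := ZMod 4

/-- The labels of the triple covers. -/
abbrev Lab3 : Type := ZMod 3

/-- Permutations of lines, unitary matrices and permutations of two kinds of sheets. -/
abbrev Big : Type := Equiv.Perm (Fin 112) ×
  SU4 × Equiv.Perm (Fin 162 × Lab3) × Equiv.Perm (Fin 162 × Lab3)

instance : NeZero covThreeA.q := ⟨by decide⟩

instance : NeZero covThreeB.q := ⟨by decide⟩

theorem coverA : covThreeA.shapeK = true ∧ covThreeA.treeK = true ∧ (∀ m : Fin 2,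
    covThreeA.memK m = true ∧ covThreeA.goodK m = true) := by
  obtain ⟨⟨⟨⟨⟨hs, ht⟩, m0⟩, m1⟩, g0⟩, g1⟩ := by simpa only [coverOK, Bool.and_eq_true] using covA_ok
  exact ⟨hs, ht, fun m => by fin_cases m <;> exact ⟨by assumption, by assumption⟩⟩

theorem coverB : covThreeB.shapeK = true ∧ covThreeB.treeK = true ∧ (∀ m : Fin 2,
    covThreeB.memK m = true ∧ covThreeB.goodK m = true) := by
  obtain ⟨⟨⟨⟨⟨hs, ht⟩, m0⟩, m1⟩, g0⟩, g1⟩ := by simpa only [coverOK, Bool.and_eq_true] using covB_ok
  exact ⟨hs, ht, fun m => by fin_cases m <;> exact ⟨by assumption, by assumption⟩⟩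

theorem liftA_exists (m : Fin 2) : ∃ r : Equiv.Perm (Fin covThreeA.N),
    (∀ i : Fin covThreeA.N, covThreeA.imN m i = (r i : ℕ)) ∧
      ((phi (gen m) : Equiv.Perm (Fin covThreeA.d)), covThreeA.liftP r (covThreeA.shF m)) ∈ covThreeA.movers :=
  covThreeA.exists_lift coverA.1 (by decide) (coverA.2.2 m).1 (coverA.2.2 m).2 (gen_rep m)

theorem liftB_exists (m : Fin 2) : ∃ r : Equiv.Perm (Fin covThreeB.N),
    (∀ i : Fin covThreeB.N, covThreeB.imN m i = (r i : ℕ)) ∧
      ((phi (gen m) : Equiv.Perm (Fin covThreeB.d)), covThreeB.liftP r (covThreeB.shF m)) ∈ covThreeB.movers :=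
  covThreeB.exists_lift coverB.1 (by decide) (coverB.2.2 m).1 (coverB.2.2 m).2 (gen_rep m)

/-- A lifted generator of the first triple cover. -/
noncomputable def liftA (m : Fin 2) : Equiv.Perm (Fin covThreeA.d) × Equiv.Perm covThreeA.Sheet :=
  (phi (gen m), covThreeA.liftP (liftA_exists m).choose (covThreeA.shF m))

/-- A lifted generator of the second triple cover. -/
noncomputable def liftB (m : Fin 2) : Equiv.Perm (Fin covThreeB.d) × Equiv.Perm covThreeB.Sheet :=
  (phi (gen m), covThreeB.liftP (liftB_exists m).choose (covThreeB.shF m))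

/-- The lifted generators. -/
noncomputable def lgen (m : Fin 2) : Big := (phi (gen m), genSU m, (liftA m).2, (liftB m).2)

/-- The projection to the unitary group. -/
def prU : Big →* SU4 := (MonoidHom.fst _ _).comp (MonoidHom.snd _ _)

/-- The projection to the first triple cover. -/
def prA : Big →* Equiv.Perm (Fin covThreeA.d) × Equiv.Perm covThreeA.Sheet :=
  (MonoidHom.fst _ _).prod ((MonoidHom.fst _ _).comp ((MonoidHom.snd _ _).comp (MonoidHom.snd _ _)))

/-- The projection to the second triple cover. -/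
def prB : Big →* Equiv.Perm (Fin covThreeB.d) × Equiv.Perm covThreeB.Sheet :=
  (MonoidHom.fst _ _).prod ((MonoidHom.snd _ _).comp ((MonoidHom.snd _ _).comp (MonoidHom.snd _ _)))

/-- The cover. -/
noncomputable abbrev Gam : Subgroup Big := Subgroup.closure (Set.range lgen)

theorem gam_le : Gam ≤ (phi.comp ((QuotientGroup.mk' (Subgroup.center SU4)).comp prU)).eqLocus (MonoidHom.fst _ _) ⊓
    (covThreeA.movers.comap prA ⊓ covThreeB.movers.comap prB) :=
  (Subgroup.closure_le _).2 (by
    rintro _ ⟨m, rfl⟩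
    exact ⟨rfl, (liftA_exists m).choose_spec.2, (liftB_exists m).choose_spec.2⟩)

/-- The projection. -/
noncomputable def sigma : Gam →* G :=
  (QuotientGroup.mk' (Subgroup.center SU4)).comp (prU.comp Gam.subtype)

theorem phi_sigma (π : Gam) : phi (sigma π) = (π : Big).1 := (gam_le π.2).1

/-- A lifted generator in the cover. -/
noncomputable def gG (m : Fin 2) : Gam := ⟨lgen m, Subgroup.subset_closure ⟨m, rfl⟩⟩

theorem sigma_gen (m : Fin 2) : sigma (gG m) = gen m := rfl

theorem gG_closure : Subgroup.closure (Set.range gG) = ⊤ := by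
  apply Subgroup.map_injective Gam.subtype_injective
  rw [MonoidHom.map_closure, ← Set.range_comp, ← MonoidHom.range_eq_map, Subgroup.range_subtype]
  rfl

theorem sigma_surjective : Function.Surjective sigma := by
  rw [← MonoidHom.range_eq_top, MonoidHom.range_eq_map, ← gG_closure, MonoidHom.map_closure,
    ← Set.range_comp]
  exact (congrArg Subgroup.closure (congrArg Set.range (funext sigma_gen))).trans gen_closure

/-- The scalar matrix with a power of `i`. -/
def scalarSU (a : Lab4) : SU4 :=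
  ⟨⟨ipow a • (1 : Matrix (Fin 4) (Fin 4) F9), by
    rw [det_smul, det_one, mul_one, Fintype.card_fin, pow_succ, pow_three]
    exact (ipow_facts.2.2.1 a).2⟩, fun u v => by
    show Cfsg.hermForm 4 F9 3 ((ipow a • (1 : Matrix (Fin 4) (Fin 4) F9)) *ᵥ u)
      ((ipow a • (1 : Matrix (Fin 4) (Fin 4) F9)) *ᵥ v) = Cfsg.hermForm 4 F9 3 u v
    simp only [smul_mulVec, one_mulVec, Cfsg.hermForm, Pi.smul_apply, smul_eq_mul, pow_three]
    refine Finset.sum_congr rfl fun k _ => ?_
    have h := (ipow_facts.2.2.1 a).1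
    rw [← F9.conj_eq] at h
    linear_combination (u k * (v k * v k * v k)) * h⟩

/-- The multiplier. -/
abbrev Mult : Type := Multiplicative (Lab4 × Lab3 × Lab3)

/-- The central elements. -/
def shifts : Mult →* Big where
  toFun v := (1, scalarSU v.toAdd.1, covThreeA.shift v.toAdd.2.1, covThreeB.shift v.toAdd.2.2)
  map_one' := Prod.ext rfl (Prod.ext (Subtype.ext (Subtype.ext (by
    show ipow 0 • (1 : Matrix (Fin 4) (Fin 4) F9) = 1
    rw [ipow_facts.2.1, one_smul]))) (Prod.ext covThreeA.shift_zero covThreeB.shift_zero))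
  map_mul' v w := Prod.ext (one_mul 1).symm (Prod.ext (Subtype.ext (Subtype.ext (by
    show ipow (v.toAdd.1 + w.toAdd.1) • (1 : Matrix (Fin 4) (Fin 4) F9) = (ipow v.toAdd.1 • 1) * (ipow w.toAdd.1 • 1)
    rw [smul_mul_assoc, one_mul, smul_smul, ipow_facts.1])))
    (Prod.ext (covThreeA.shift_mul _ _).symm (covThreeB.shift_mul _ _).symm))

theorem shifts_injective : Function.Injective shifts := fun v w h =>
  Multiplicative.toAdd.injective (Prod.ext
    (ipow_facts.2.2.2.1 _ _ (by
      simpa [shifts, scalarSU] using congrArg (fun x : Big => (x.2.1.1 : Matrix (Fin 4) (Fin 4) F9) 0 0) h))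
    (Prod.ext (covThreeA.shift_inj (by decide) (congrArg (fun x : Big => x.2.2.1) h))
      (covThreeB.shift_inj (by decide) (congrArg (fun x : Big => x.2.2.2) h))))

theorem ker_eq {π : Gam} (h : π ∈ sigma.ker) : (π : Big) ∈ shifts.range := by
  have h1 : (π : Big).1 = 1 := by rw [← phi_sigma, MonoidHom.mem_ker.1 h, map_one]
  have hU : psiSU (π : Big).2.1 = 1 := MonoidHom.mem_ker.1
    (ker_psiSU.symm ▸ (QuotientGroup.eq_one_iff _).1 (MonoidHom.mem_ker.1 h))
  obtain ⟨c, hc⟩ := scalar_of_ker (MonoidHom.mem_ker.2 hU)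
  have hdet := (π : Big).2.1.1.2
  rw [hc, det_smul, det_one, mul_one, Fintype.card_fin, pow_succ, pow_three] at hdet
  obtain ⟨a, ha⟩ := ipow_facts.2.2.2.2 c hdet
  obtain ⟨-, hA, hB⟩ := gam_le π.2
  obtain ⟨b, hb⟩ := covThreeA.exists_shift coverA.1 coverA.2.1 (by decide) hA h1
  obtain ⟨e, he⟩ := covThreeB.exists_shift coverB.1 coverB.2.1 (by decide) hB h1
  exact ⟨Multiplicative.ofAdd (a, b, e), Prod.ext h1.symm (Prod.ext
    (Subtype.ext (Subtype.ext (by rw [hc, ← ha]; rfl))) (Prod.ext hb.symm he.symm))⟩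

theorem ker_le_center : sigma.ker ≤ Subgroup.center Gam := by
  intro π hπ
  refine Subgroup.mem_center_iff.2 fun g => Subtype.ext ?_
  obtain ⟨v, e⟩ := ker_eq hπ
  obtain ⟨-, hA, hB⟩ := gam_le g.2
  rw [Subgroup.coe_mul, Subgroup.coe_mul, ← e]
  refine Prod.ext ?_ (Prod.ext ?_ (Prod.ext ?_ ?_))
  · exact (mul_one _).trans (one_mul _).symm
  · refine Subtype.ext (Subtype.ext ?_)
    show ((g : Big).2.1.1 : Matrix (Fin 4) (Fin 4) F9) * (ipow v.toAdd.1 • 1) = (ipow v.toAdd.1 • 1) * _
    rw [mul_smul_comm, mul_one, smul_mul_assoc, one_mul]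
  · exact (covThreeA.shift_comm hA _).symm
  · exact (covThreeB.shift_comm hB _).symm

/-- The code of a vector. -/
def codeV (v : Fin 4 → F9) : ℕ := vcode (v 0) (v 1) (v 2) (v 3)

theorem code_lt : ∀ x : F9, F9.code x < 9 ∧ F9.ofNat9 (F9.code x) = x := by decide +kernel

theorem digit_code (v : Fin 4 → F9) (k : Fin 4) : F9.ofNat9 (codeV v / 9 ^ k.val % 9) = v k := by
  have h0 := (code_lt (v 0)).1
  have h1 := (code_lt (v 1)).1
  have h2 := (code_lt (v 2)).1
  have h3 := (code_lt (v 3)).1
  have dg : ∀ a X : ℕ, a < 9 → (a + 9 * X) / 9 = X ∧ (a + 9 * X) % 9 = a := fun a X h => by omega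
  have this : codeV v / 9 ^ k.val % 9 = F9.code (v k) := by
    unfold codeV vcode
    fin_cases k
    · show _ / 9 ^ 0 % 9 = _
      rw [pow_zero, Nat.div_one, (dg _ _ h0).2]
      rfl
    · simp only [pow_one]
      rw [(dg _ _ h0).1, (dg _ _ h1).2]
      rfl
    · show _ / 9 ^ 2 % 9 = _
      rw [pow_two, ← Nat.div_div_eq_div_mul, (dg _ _ h0).1, (dg _ _ h1).1, (dg _ _ h2).2]
      rfl
    · show _ / 9 ^ 3 % 9 = _
      rw [pow_succ, pow_two, ← Nat.div_div_eq_div_mul, ← Nat.div_div_eq_div_mul, (dg _ _ h0).1, (dg _ _ h1).1,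
        (dg _ _ h2).1, Nat.mod_eq_of_lt h3]
      rfl
  rw [this, (code_lt (v k)).2]

theorem vecImg_app : ∀ (w : List (Fin 2)) (v : Fin 4 → F9),
    vecImg (w.map Fin.val) (codeV v) = codeV (app (w.map genSU).prod v)
  | [], v => by simp [vecImg, app_one]
  | m :: w, v => by
    show stepN m (vecImg (w.map Fin.val) (codeV v)) = _
    rw [vecImg_app w v, List.map_cons, List.prod_cons, app_mul, app_genSU, stepN]
    simp only [digit_code]
    rfl

/-- The product of lifted generators along a word. -/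
noncomputable def wG (w : List (Fin 2)) : Gam := (w.map gG).prod

theorem codeV_injective : Function.Injective codeV := fun u v h =>
  funext fun k => by rw [← digit_code u k, h, digit_code]

theorem scalar_eq {w : List ℕ} {a : ℕ} (hl : (w.all fun m => Nat.blt m 2) = true) (h : scalarOK w a = true) :
    ((letters w).map genSU).prod = scalarSU (a : Lab4) := by
  simp only [scalarOK, allF_iff, Nat.beq_eq] at h
  refine Subtype.ext (Subtype.ext (Matrix.ext_of_mulVec_single fun k => codeV_injective ?_))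
  have hc : ∀ (k : Fin 4) (x : F9), codeV (Pi.single k x) = 9 ^ k.val * F9.code x := fun k x => by
    fin_cases k <;> simp [codeV, vcode, F9.code] <;> ring
  have e := h k k.2
  rw [← hc k 1, ← hc k (ipow (a : Lab4)), ← letters_val hl, vecImg_app] at e
  refine e.trans ?_
  congr 1
  show _ = (ipow (a : Lab4) • (1 : Matrix (Fin 4) (Fin 4) F9)) *ᵥ Pi.single k 1
  rw [smul_mulVec, one_mulVec, ← Pi.single_smul', smul_eq_mul, mul_one]

theorem wG_eq {w s : List ℕ} (h : wordsRel w s = true) :
    (wG (letters w) : Big) =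
      shifts (Multiplicative.ofAdd ((s.getD 0 0 : ℕ), (s.getD 1 0 : ℕ), (s.getD 2 0 : ℕ))) := by
  simp only [wordsRel, Bool.and_eq_true, Nat.blt_eq] at h
  obtain ⟨⟨⟨⟨⟨⟨hl, hb⟩, hS⟩, hA⟩, hB⟩, lA⟩, lB⟩ := h
  have el := letters_val hl
  have hval : (wG (letters w) : Big) = ((letters w).map lgen).prod := by
    rw [wG, Subgroup.val_list_prod, List.map_map]
    rfl
  refine Prod.ext ?_ (Prod.ext ?_ (Prod.ext ?_ ?_))
  · show (wG (letters w) : Big).1 = 1
    rw [← phi_sigma, wG, map_list_prod, List.map_map,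
      show (sigma ∘ gG) = gen from funext sigma_gen, prod_eq_one (by rw [el]; exact hb), map_one]
  · refine Eq.trans ?_ (scalar_eq hl hS)
    show prU (wG (letters w) : Big) = _
    rw [hval, map_list_prod, List.map_map]
    rfl
  · have e := covThreeA.prod_eq_shift liftA Fin.val (w := letters w)
      (fun m => ⟨_, (liftA_exists m).choose_spec.1, rfl⟩) lA (el.symm ▸ hA)
    refine Eq.trans ?_ e
    show (prA (wG (letters w) : Big)).2 = _
    rw [hval, map_list_prod, List.map_map]
    rfl
  · have e := covThreeB.prod_eq_shift liftB Fin.val (w := letters w)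
      (fun m => ⟨_, (liftB_exists m).choose_spec.1, rfl⟩) lB (el.symm ▸ hB)
    refine Eq.trans ?_ e
    show (prB (wG (letters w) : Big)).2 = _
    rw [hval, map_list_prod, List.map_map]
    rfl

/-- One of the two central words in the multiplier. -/
noncomputable def zV (j : ℕ) : Mult :=
  Multiplicative.ofAdd (((zS.getD j []).getD 0 0 : ℕ), ((zS.getD j []).getD 1 0 : ℕ), ((zS.getD j []).getD 2 0 : ℕ))

theorem shifts_mem (v : Mult) : ∃ π ∈ sigma.ker, (π : Big) = shifts v := by
  obtain ⟨i, j, ha, hb, hc⟩ := z_span v.toAdd.1 v.toAdd.2.1 v.toAdd.2.2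
  have hv : v = zV 0 ^ i.val * zV 1 ^ j.val := by
    refine Multiplicative.toAdd.injective (Prod.ext ?_ (Prod.ext ?_ ?_))
    · simp [zV, ← ha]
    · simp [zV, ← hb]
    · simp [zV, ← hc]
  refine ⟨wG (letters (zW.getD 0 [])) ^ i.val * wG (letters (zW.getD 1 [])) ^ j.val, ?_, ?_⟩
  · have hk : ∀ k < 2, wG (letters (zW.getD k [])) ∈ sigma.ker := fun k hk =>
      MonoidHom.mem_ker.2 (phi_injective (by rw [phi_sigma, wG_eq (rel_z k hk), map_one]; rfl))
    exact mul_mem (pow_mem (hk 0 (by norm_num)) _) (pow_mem (hk 1 (by norm_num)) _)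
  · rw [Subgroup.coe_mul, Subgroup.coe_pow, Subgroup.coe_pow, wG_eq (rel_z 0 (by norm_num)),
      wG_eq (rel_z 1 (by norm_num)), hv, map_mul, map_pow, map_pow]
    rfl

/-- The kernel is the multiplier. -/
noncomputable def kerEquiv : sigma.ker ≃* Mult :=
  (MulEquiv.ofBijective
    ({ toFun := fun v => ⟨(shifts_mem v).choose, (shifts_mem v).choose_spec.1⟩
       map_one' := Subtype.ext (Subtype.ext (by
         rw [OneMemClass.coe_one, OneMemClass.coe_one]
         exact (shifts_mem 1).choose_spec.2.trans (map_one _)))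
       map_mul' := fun v w => Subtype.ext (Subtype.ext (by
         rw [Subgroup.coe_mul, Subgroup.coe_mul, (shifts_mem (v * w)).choose_spec.2,
           (shifts_mem v).choose_spec.2, (shifts_mem w).choose_spec.2, map_mul])) } : Mult →* sigma.ker)
    ⟨fun v w h => shifts_injective (by
        rw [← (shifts_mem v).choose_spec.2, ← (shifts_mem w).choose_spec.2]
        exact congrArg (fun x : sigma.ker => ((x : Gam) : Big)) h),
      fun π => by
        obtain ⟨v, e⟩ := ker_eq π.2
        exact ⟨v, Subtype.ext (Subtype.ext ((shifts_mem v).choose_spec.2.trans e))⟩⟩).symm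

theorem card_ker : Nat.card sigma.ker = 36 := by
  rw [Nat.card_congr kerEquiv.toEquiv]
  simp [Nat.card_prod]

theorem gG_pow : gG 0 ^ 7 = 1 ∧ gG 1 ^ 5 = 1 := by
  have key : ∀ (m : Fin 2) (n : ℕ), gG m ^ n = wG (letters (List.replicate n m.val)) := fun m n => by
    simp [wG, letters, List.map_replicate]
  have h0 : shifts (Multiplicative.ofAdd (((0 : ℕ) : Lab4), ((0 : ℕ) : Lab3), ((0 : ℕ) : Lab3))) = 1 := by
    simp only [Nat.cast_zero]
    exact map_one shifts
  exact ⟨Subtype.ext (by rw [key, Fin.val_zero, wG_eq rel_gen.1]; exact h0),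
    Subtype.ext (by rw [key, Fin.val_one, wG_eq rel_gen.2]; exact h0)⟩

theorem commutator_top : commutator Gam = ⊤ := by
  have h36 : ∀ π : Gam, π ^ 36 ∈ commutator Gam := by
    intro π
    obtain ⟨d, hd, hde⟩ : sigma π ∈ (commutator Gam).map sigma := by
      rw [_root_.commutator_def, Subgroup.map_commutator, ← MonoidHom.range_eq_map,
        MonoidHom.range_eq_top.2 sigma_surjective, ← _root_.commutator_def, commutator_G]
      exact Subgroup.mem_top _
    have hk : d⁻¹ * π ∈ sigma.ker := by rw [MonoidHom.mem_ker, map_mul, map_inv, hde, inv_mul_cancel]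
    have hk12 : (d⁻¹ * π) ^ 36 = 1 :=
      congrArg Subtype.val (card_ker ▸ pow_card_eq_one' : (⟨_, hk⟩ : sigma.ker) ^ 36 = 1)
    have e := (show Commute d (d⁻¹ * π) from Subgroup.mem_center_iff.1 (ker_le_center hk) d).mul_pow 36
    rw [mul_inv_cancel_left, hk12, mul_one] at e
    rw [e]
    exact Subgroup.pow_mem _ hd _
  refine eq_top_iff.2 (gG_closure ▸ (Subgroup.closure_le _).2 ?_)
  rintro _ ⟨m, rfl⟩
  fin_cases m
  · have h : gG 0 = (gG 0 ^ 36) * ((gG 0 ^ 7) ^ 5)⁻¹ := by
      rw [eq_mul_inv_iff_mul_eq, ← pow_mul, ← pow_succ']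
    show gG 0 ∈ commutator Gam
    rw [h, gG_pow.1, one_pow, inv_one, mul_one]
    exact h36 _
  · have h : gG 1 = (gG 1 ^ 36) * ((gG 1 ^ 5) ^ 7)⁻¹ := by
      rw [eq_mul_inv_iff_mul_eq, ← pow_mul, ← pow_succ']
    show gG 1 ∈ commutator Gam
    rw [h, gG_pow.2, one_pow, inv_one, mul_one]
    exact h36 _

theorem isStem : Cfsg.IsStemExtension sigma :=
  ⟨sigma_surjective, ker_le_center, by rw [commutator_top]; exact le_top⟩

end CfsgLib.Schur.PSUFourThree
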